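import Mathlib.RingTheory.Etale.Pi
import Mathlib.RingTheory.Smooth.Flat
import Mathlib.RingTheory.Flat.EquationalCriterion
import Mathlib.RingTheory.Localization.Away.Lemmas
import Mathlib.RingTheory.Finiteness.Quotient
import Mathlib.RingTheory.Finiteness.Prod
import Mathlib.RingTheory.Idempotents
import Mathlib.RingTheory.Nakayama
import Mathlib.RingTheory.TensorProduct.Finite

/-!
# Finite étale algebras: closure properties
-/

set_option autoImplicit false

open TensorProduct

namespace Groth.Agent.SchFinLib

universe u

variable {R A B : Type u} [CommRing R] [CommRing A] [CommRing B] [Algebra R A] [Algebra R B]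

/-- the annihilator of a finite projective module is generated by an idempotent -/
lemma exists_idem_annihilator {M : Type u} [AddCommGroup M] [Module A M] [Module.Finite A M]
    [Module.Projective A M] :
    ∃ e : A, IsIdempotentElem e ∧ ∀ a : A, (∀ m : M, a • m = 0) ↔ a ∈ Ideal.span {e} := by
  obtain ⟨n, f, g, hf, hg, hfg⟩ := Module.Finite.exists_comp_eq_id_of_projective A M
  let T : Ideal A := Ideal.span (Set.range fun p : Fin n × M => g p.2 p.1)
  have hmem : ∀ m : M, m ∈ T • (⊤ : Submodule A M) := by
    intro m
    have hm : m = ∑ i, g m i • f (Pi.single i 1) := by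
      conv_lhs => rw [← LinearMap.id_apply (R := A) m, ← hfg, LinearMap.comp_apply,
        pi_eq_sum_univ' (g m), map_sum]
      refine Finset.sum_congr rfl fun i _ => ?_
      rw [map_smul]
    rw [hm]
    exact Submodule.sum_mem _ fun i _ => Submodule.smul_mem_smul
      (Ideal.subset_span ⟨(i, m), rfl⟩) trivial
  obtain ⟨r, hr1, hr⟩ := Submodule.exists_sub_one_mem_and_smul_eq_zero_of_fg_of_le_smul T
    (⊤ : Submodule A M) Module.Finite.fg_top (fun m _ => hmem m)
  have hT : ∀ a : A, (∀ m : M, a • m = 0) → ∀ t ∈ T, a * t = 0 := by
    intro a ha t ht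
    induction ht using Submodule.span_induction with
    | mem x hx =>
        obtain ⟨⟨i, m⟩, rfl⟩ := hx
        show a * g m i = 0
        rw [← smul_eq_mul, ← Pi.smul_apply, ← map_smul, ha m, map_zero]
        rfl
    | zero => simp
    | add x y _ _ hx hy => rw [mul_add, hx, hy, add_zero]
    | smul c x _ hx => rw [smul_eq_mul, mul_left_comm, hx, mul_zero]
  have hr' : ∀ m : M, r • m = 0 := fun m => hr m trivial
  have hrr : r * r = r := by
    have h := hT r hr' _ hr1
    rw [mul_sub, mul_one, sub_eq_zero] at h
    exact h
  refine ⟨r, hrr, fun a => ⟨fun ha => ?_, fun ha m => ?_⟩⟩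
  · have h := hT a ha _ hr1
    rw [mul_sub, mul_one, sub_eq_zero] at h
    exact Ideal.mem_span_singleton'.mpr ⟨a, h⟩
  · obtain ⟨b, rfl⟩ := Ideal.mem_span_singleton'.mp ha
    rw [mul_smul, hr' m, smul_zero]

/-- a map of finite étale algebras over a Noetherian ring has kernel generated by an idempotent -/
lemma exists_idem_ker [IsNoetherianRing R] [Module.Finite R A] [Algebra.Etale R A]
    [Module.Finite R B] [Algebra.Etale R B] (f : A →ₐ[R] B) :
    ∃ e : A, IsIdempotentElem e ∧ RingHom.ker f = Ideal.span {e} := by
  let _ : Algebra A B := f.toRingHom.toAlgebra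
  have : IsScalarTower R A B := IsScalarTower.of_algebraMap_eq fun r => (f.commutes r).symm
  have : IsNoetherianRing A := Algebra.FiniteType.isNoetherianRing R A
  have : Algebra.Etale A B := Algebra.Etale.of_restrictScalars R A B
  have : Module.Finite A B := Module.Finite.of_restrictScalars_finite R A B
  have : Module.FinitePresentation A B := Module.finitePresentation_of_finite A B
  have : Module.Projective A B := Module.Flat.projective_of_finitePresentation
  obtain ⟨e, he, hann⟩ := exists_idem_annihilator (A := A) (M := B)
  refine ⟨e, he, ?_⟩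
  ext a
  rw [RingHom.mem_ker, ← hann a]
  constructor
  · intro ha b
    show f a * b = 0
    rw [show f a = 0 from ha, zero_mul]
  · intro ha
    have := ha 1
    rwa [Algebra.smul_def, mul_one] at this

lemma etale_quotient_of_idem [Algebra.Etale R A] {e : A} (he : IsIdempotentElem e) :
    Algebra.Etale R (A ⧸ Ideal.span ({e} : Set A)) := by
  have : IsLocalization.Away (1 - e) (A ⧸ Ideal.span ({e} : Set A)) :=
    IsLocalization.away_of_isIdempotentElem he.one_sub
      (by rw [sub_sub_cancel]; exact Ideal.mk_ker) Ideal.Quotient.mk_surjective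
  have : Algebra.Etale A (A ⧸ Ideal.span ({e} : Set A)) :=
    Algebra.Etale.of_isLocalizationAway (1 - e)
  exact Algebra.Etale.comp R A _

lemma finite_range [IsNoetherianRing R] [Module.Finite R B] (f : A →ₐ[R] B) :
    Module.Finite R f.range := by
  exact Module.Finite.of_injective f.range.val.toLinearMap Subtype.val_injective

lemma etale_range [IsNoetherianRing R] [Module.Finite R A] [Algebra.Etale R A]
    [Module.Finite R B] [Algebra.Etale R B] (f : A →ₐ[R] B) : Algebra.Etale R f.range := by
  obtain ⟨e, he, hk⟩ := exists_idem_ker f
  have := etale_quotient_of_idem (R := R) he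
  exact Algebra.Etale.of_equiv ((Ideal.quotientEquivAlgOfEq R hk.symm).trans
    (Ideal.quotientKerEquivRange f))

/-- the family `i ↦ A` or `B` on `Bool` -/
abbrev boolFam (A B : Type u) : Bool → Type u := fun i => Bool.rec B A i

instance instBoolFamCommRing : ∀ i, CommRing (boolFam A B i)
  | true => inferInstanceAs (CommRing A)
  | false => inferInstanceAs (CommRing B)

instance instBoolFamAlgebra : ∀ i, Algebra R (boolFam A B i)
  | true => inferInstanceAs (Algebra R A)
  | false => inferInstanceAs (Algebra R B)

lemma etale_prod [Algebra.Etale R A] [Algebra.Etale R B] : Algebra.Etale R (A × B) := by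
  have : ∀ i, Algebra.Etale R (boolFam A B i)
    | true => inferInstanceAs (Algebra.Etale R A)
    | false => inferInstanceAs (Algebra.Etale R B)
  let e : ((i : Bool) → boolFam A B i) ≃ₐ[R] A × B :=
    { toFun := fun f => (f true, f false)
      invFun := fun p i => match i with
        | true => p.1
        | false => p.2
      left_inv := fun f => funext fun i => by cases i <;> rfl
      right_inv := fun p => rfl
      map_mul' := fun _ _ => rfl
      map_add' := fun _ _ => rfl
      commutes' := fun _ => rfl }
  exact Algebra.Etale.of_equiv e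

end Groth.Agent.SchFinLib
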