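import Groth.Agent.SchFinLib.Fibre
import Mathlib.RingTheory.Spectrum.Prime.FreeLocus

/-!
# Ranks of étale covers of well connected finite spaces
-/

set_option autoImplicit false

open TensorProduct CategoryTheory CategoryTheory.Limits

namespace Groth.Agent.SchFinLib

open SchFin

universe u

variable {X : RSpace.{u}}

instance fet_fp_alg (A : FEt X) (p : X.pt) :
    Algebra.FinitePresentation (X.ring p) (A.obj.carrier p) := inferInstance

lemma fet_modFP (hX : X.IsSchematic) (A : FEt X) (p : X.pt) :
    Module.FinitePresentation (X.ring p) (A.obj.carrier p) := by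
  have := noeth hX p
  exact Module.finitePresentation_of_finite _ _

lemma idem_trivial {T : Type u} [CommRing T] (h : ConnectedSpace (PrimeSpectrum T)) {e : T}
    (he : IsIdempotentElem e) : e = 0 ∨ e = 1 := by
  have hc : IsClopen (PrimeSpectrum.basicOpen e : Set (PrimeSpectrum T)) :=
    PrimeSpectrum.isClopen_iff.mpr ⟨e, he, rfl⟩
  rcases isClopen_iff.mp hc with h0 | h1
  · left
    have hn : IsNilpotent e := by
      rw [nilpotent_iff_mem_prime]
      intro J hJ
      by_contra hJe
      have : (⟨J, hJ⟩ : PrimeSpectrum T) ∈ (PrimeSpectrum.basicOpen e : Set (PrimeSpectrum T)) := hJe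
      rw [h0] at this
      exact this
    obtain ⟨n, hn⟩ := hn
    rcases Nat.eq_zero_or_pos n with rfl | hpos
    · rw [pow_zero] at hn
      rw [← mul_one e, hn, mul_zero]
    · obtain ⟨k, rfl⟩ : ∃ k, n = k + 1 := ⟨n - 1, by omega⟩
      rwa [he.pow_succ_eq] at hn
  · right
    have hu : IsUnit e := by
      by_contra hnu
      obtain ⟨M, hM, hle⟩ := Ideal.exists_le_maximal (Ideal.span {e})
        (fun ht => hnu (Ideal.span_singleton_eq_top.mp ht))
      have : (⟨M, hM.isPrime⟩ : PrimeSpectrum T) ∈
          (PrimeSpectrum.basicOpen e : Set (PrimeSpectrum T)) := by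
        rw [h1]
        trivial
      exact this (hle (Ideal.mem_span_singleton_self e))
    exact hu.mul_left_cancel (he.eq.trans (mul_one e).symm)

lemma topConnected (hwc : X.IsWellConnected) (x y : X.pt) :
    Relation.EqvGen (fun a b : X.pt => a ≤ b) x y := by
  classical
  by_contra hxy
  let r := fun q : X.pt => Relation.EqvGen (fun a b : X.pt => a ≤ b) x q
  have hr : ∀ {q q' : X.pt}, q ≤ q' → (r q ↔ r q') := fun h =>
    ⟨fun hq => hq.trans _ _ _ (Relation.EqvGen.rel _ _ h),
      fun hq => hq.trans _ _ _ ((Relation.EqvGen.rel _ _ h).symm _ _)⟩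
  let e : X.sectRing Set.univ :=
    ⟨fun q => if r q.1 then 1 else 0, fun q q' h => by
      by_cases hq : r q.1
      · simp [hq, (hr h).mp hq]
      · have : ¬ r q'.1 := fun hq' => hq ((hr h).mpr hq')
        simp [hq, this]⟩
  have he : IsIdempotentElem e := Subtype.ext (funext fun q => by
    show (if r q.1 then (1 : X.ring q.1) else 0) * (if r q.1 then 1 else 0) = _
    by_cases hq : r q.1 <;> simp [hq, e])
  have hnt : ∀ q : X.pt, (1 : X.ring q) ≠ 0 := fun q h10 => by
    have := (hwc.2 q).toNonempty
    obtain ⟨P⟩ := this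
    exact P.2.ne_top ((Ideal.eq_top_iff_one _).mpr (h10 ▸ P.asIdeal.zero_mem))
  rcases idem_trivial hwc.1 he with h0 | h1
  · have := congrFun (congrArg Subtype.val h0) ⟨x, Set.mem_univ x⟩
    have hx : r x := Relation.EqvGen.refl x
    simp [e, hx] at this
    exact hnt x this
  · have := congrFun (congrArg Subtype.val h1) ⟨y, Set.mem_univ y⟩
    have hy : ¬ r y := hxy
    simp [e, hy] at this
    exact hnt y this.symm

lemma rank_res (A : FEt X) {p q : X.pt} (h : p ≤ q) (Q : PrimeSpectrum (X.ring q)) :
    Module.rankAtStalk (A.obj.carrier q) Q =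
      Module.rankAtStalk (A.obj.carrier p) (PrimeSpectrum.comap (X.res h) Q) := by
  letI : Algebra (X.ring p) (X.ring q) := (X.res h).toAlgebra
  rw [← Module.rankAtStalk_eq_of_equiv (bcEquiv (fet_bc A h)).toLinearEquiv,
    Module.rankAtStalk_baseChange]
  rfl

/-- ranks are constant on well connected spaces -/
lemma rank_const (hX : X.IsSchematic) (hwc : X.IsWellConnected) (A : FEt X) (p q : X.pt)
    (P : PrimeSpectrum (X.ring p)) (Q : PrimeSpectrum (X.ring q)) :
    Module.rankAtStalk (A.obj.carrier p) P = Module.rankAtStalk (A.obj.carrier q) Q := by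
  have hpt : ∀ (p : X.pt) (P P' : PrimeSpectrum (X.ring p)),
      Module.rankAtStalk (A.obj.carrier p) P = Module.rankAtStalk (A.obj.carrier p) P' := by
    intro p P P'
    have := fet_modFP hX A p
    have := hwc.2 p
    exact Module.isLocallyConstant_rankAtStalk.apply_eq_of_preconnectedSpace P P'
  have key : ∀ x y : X.pt, Relation.EqvGen (fun a b : X.pt => a ≤ b) x y →
      ∀ (P : PrimeSpectrum (X.ring x)) (Q : PrimeSpectrum (X.ring y)),
      Module.rankAtStalk (A.obj.carrier x) P = Module.rankAtStalk (A.obj.carrier y) Q := by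
    intro x y hxy
    induction hxy with
    | rel a b hab => exact fun P Q => (hpt a P _).trans (rank_res A hab Q).symm
    | refl a => exact hpt a
    | symm a b _ ih => exact fun P Q => (ih Q P).symm
    | trans a b c _ _ ih1 ih2 =>
        intro P Q
        obtain ⟨M⟩ := (hwc.2 b).toNonempty
        exact (ih1 P M).trans (ih2 M Q)
  exact key p q (topConnected hwc p q) P Q

/-- the prime under the geometric point -/
def ptPrime {Ω : Type u} [Field Ω] [IsAlgClosed Ω] (ξ : GeomPt X Ω) :
    PrimeSpectrum (X.ring ξ.base) :=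
  ⟨RingHom.ker ξ.toField, RingHom.ker_isPrime _⟩

lemma card_pts {Ω : Type u} [Field Ω] [IsAlgClosed Ω] (ξ : GeomPt X Ω) (A : FEt X) :
    Nat.card (Pts ξ A) = Module.rankAtStalk (A.obj.carrier ξ.base) (ptPrime ξ) := by
  letI := ptAlgebra ξ
  let M := Ω ⊗[X.ring ξ.base] A.obj.carrier ξ.base
  obtain ⟨n, ⟨e⟩⟩ := Algebra.IsFiniteSplit.nonempty_algEquiv_fun Ω M
  have h1 : Nat.card (Pts ξ A) = n := by
    rw [Nat.card_congr (Algebra.TensorProduct.liftEquivRight (X.ring ξ.base) Ω
        (A.obj.carrier ξ.base) Ω),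
      Nat.card_congr (AlgEquiv.arrowCongr e (AlgEquiv.refl : Ω ≃ₐ[Ω] Ω)),
      Nat.card_congr (Algebra.IsFiniteSplit.algHomEquivPrimeSpectrum Ω (Fin n → Ω)),
      ← Nat.card_congr ((Equiv.sigmaUnique (Fin n) fun _ => PrimeSpectrum Ω).symm.trans
        (PrimeSpectrum.sigmaToPiHomeo fun _ : Fin n => Ω).toEquiv), Nat.card_fin]
  let z : PrimeSpectrum Ω := ⟨⊥, Ideal.isPrime_bot⟩
  have h2 := Module.rankAtStalk_baseChange (R := X.ring ξ.base) (M := A.obj.carrier ξ.base) z
  rw [Module.rankAtStalk_eq_finrank_of_free] at h2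
  have h3 : PrimeSpectrum.comap (algebraMap (X.ring ξ.base) Ω) z = ptPrime ξ := rfl
  rw [h3] at h2
  rw [h1, ← h2, Pi.natCast_apply, Nat.cast_id, e.toLinearEquiv.finrank_eq, Module.finrank_fin_fun]

lemma retraction_of_injective {T A B : Type u} [CommRing T] [CommRing A] [CommRing B]
    [Algebra T A] [Algebra T B] [IsNoetherianRing T] [Module.Finite T A] [Algebra.Etale T A]
    [Module.Finite T B] [Algebra.Etale T B] (f : A →ₐ[T] B) (hf : Function.Injective f) :
    ∃ r : B →ₗ[T] A, ∀ a, r (f a) = a := by
  let _ : Algebra A B := f.toRingHom.toAlgebra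
  have : IsScalarTower T A B := IsScalarTower.of_algebraMap_eq fun r => (f.commutes r).symm
  have : IsNoetherianRing A := Algebra.FiniteType.isNoetherianRing T A
  have : Algebra.Etale A B := Algebra.Etale.of_restrictScalars T A B
  have : Module.Finite A B := Module.Finite.of_restrictScalars_finite T A B
  have : Module.FinitePresentation A B := Module.finitePresentation_of_finite A B
  have : Module.Projective A B := Module.Flat.projective_of_finitePresentation
  obtain ⟨n, φ, g, hφ, hg, hφg⟩ := Module.Finite.exists_comp_eq_id_of_projective A B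
  let J : Ideal A := Ideal.span (Set.range fun i => g 1 i)
  have hJ : J = ⊤ := by
    by_contra hne
    obtain ⟨M, hM, hle⟩ := Ideal.exists_le_maximal J hne
    have : Algebra.IsIntegral A B := inferInstance
    obtain ⟨Q, -, hQ, hQM⟩ := Ideal.exists_ideal_over_prime_of_isIntegral (S := B) M ⊥
      (by rw [← RingHom.ker_eq_comap_bot, (RingHom.injective_iff_ker_eq_bot (algebraMap A B)).mp hf]
          exact bot_le)
    refine hQ.ne_top ((Ideal.eq_top_iff_one _).mpr ?_)
    have h1 : (1 : B) = ∑ i, g 1 i • φ (Pi.single i 1) := by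
      conv_lhs => rw [← LinearMap.id_apply (R := A) (1 : B), ← hφg, LinearMap.comp_apply,
        pi_eq_sum_univ' (g 1), map_sum]
      exact Finset.sum_congr rfl fun i _ => by rw [map_smul]
    rw [h1]
    refine Ideal.sum_mem _ fun i _ => ?_
    rw [Algebra.smul_def]
    refine Q.mul_mem_right _ ?_
    have : g 1 i ∈ Q.comap (algebraMap A B) := hQM ▸ hle (Ideal.subset_span ⟨i, rfl⟩)
    exact this
  obtain ⟨c, hc⟩ := Ideal.mem_span_range_iff_exists_fun.mp
    ((Ideal.eq_top_iff_one _).mp hJ : (1 : A) ∈ J)
  let l : B →ₗ[A] A := ∑ i, c i • ((LinearMap.proj i).comp g)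
  have hl : l 1 = 1 := by
    simp only [l, LinearMap.sum_apply, LinearMap.smul_apply, LinearMap.comp_apply,
      LinearMap.proj_apply, smul_eq_mul]
    exact hc
  refine ⟨l.restrictScalars T, fun a => ?_⟩
  show l (algebraMap A B a) = a
  rw [Algebra.algebraMap_eq_smul_one, map_smul, hl, smul_eq_mul, mul_one]

lemma bijective_of_injective_of_rank (hX : X.IsSchematic) {A B : FEt X} (f : A ⟶ B) (p : X.pt)
    (hf : Function.Injective (f.hom.app p))
    (hdeg : ∀ P : PrimeSpectrum (X.ring p),
      Module.rankAtStalk (A.obj.carrier p) P = Module.rankAtStalk (B.obj.carrier p) P) :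
    Function.Bijective (f.hom.app p) := by
  have := noeth hX p
  obtain ⟨r, hr⟩ := retraction_of_injective (f.hom.app p) hf
  let K := LinearMap.ker r
  let pr : B.obj.carrier p →ₗ[X.ring p] K :=
    LinearMap.codRestrict K (LinearMap.id - (f.hom.app p).toLinearMap.comp r) fun b => by
      show r (b - f.hom.app p (r b)) = 0
      rw [map_sub, hr, sub_self]
  let e : B.obj.carrier p ≃ₗ[X.ring p] A.obj.carrier p × K :=
    LinearEquiv.ofLinear (r.prod pr)
      ((f.hom.app p).toLinearMap.coprod K.subtype)
      (by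
        refine LinearMap.ext fun x => Prod.ext ?_ (Subtype.ext ?_)
        · show r (f.hom.app p x.1 + x.2.1) = x.1
          rw [map_add, hr, show r x.2.1 = 0 from x.2.2, add_zero]
        · show (f.hom.app p x.1 + x.2.1) - f.hom.app p (r (f.hom.app p x.1 + x.2.1)) = x.2.1
          rw [map_add r, hr, show r x.2.1 = 0 from x.2.2, add_zero]
          abel)
      (by
        refine LinearMap.ext fun b => ?_
        show f.hom.app p (r b) + (b - f.hom.app p (r b)) = b
        abel)
  have hproj : Module.Projective (X.ring p) (B.obj.carrier p) :=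
    have := fet_modFP hX B p
    Module.Flat.projective_of_finitePresentation
  have : Module.Finite (X.ring p) K :=
    Module.Finite.of_surjective ((LinearMap.snd _ _ _).comp e.toLinearMap)
      (Prod.snd_surjective.comp e.surjective)
  have : Module.Projective (X.ring p) K :=
    Module.Projective.of_split K.subtype pr (LinearMap.ext fun k => Subtype.ext (by
      show k.1 - f.hom.app p (r k.1) = k.1
      rw [show r k.1 = 0 from k.2, map_zero, sub_zero]))
  have h0 : Module.rankAtStalk (R := X.ring p) K = 0 := by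
    funext P
    have := congrFun (Module.rankAtStalk_prod (R := X.ring p) (A.obj.carrier p) K) P
    rw [← Module.rankAtStalk_eq_of_equiv e, Pi.add_apply, ← hdeg P] at this
    simpa using this
  have hsub : Subsingleton K := Module.rankAtStalk_eq_zero_iff_subsingleton.mp h0
  refine ⟨hf, fun b => ⟨r b, ?_⟩⟩
  have : pr b = 0 := Subsingleton.elim _ _
  exact (sub_eq_zero.mp (congrArg Subtype.val this)).symm

/-- fibrewise bijective morphisms are isomorphisms -/
lemma isIso_of_bijective_pts (hX : X.IsSchematic) (hwc : X.IsWellConnected) {Ω : Type u} [Field Ω]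
    [IsAlgClosed Ω] (ξ : GeomPt X Ω) {A B : FEt X} (f : A ⟶ B)
    (hf : Function.Bijective (ptsMap ξ f)) : IsIso f := by
  let π := imgπ hX f
  have hπ : ∀ p, Function.Surjective (π.hom.app p) :=
    fun p => (f.hom.app p).rangeRestrict_surjective
  let D := complObj hX π hπ
  let d := complπ hX π hπ
  have : IsIso (prodLiftHom π d) := isIso_of_bijective _ fun p => splitMap_bijective hX π hπ p
  have hD : IsEmpty (Pts ξ D) := by
    refine ⟨fun δ => ?_⟩
    obtain ⟨β, hβ⟩ := hf.2 (ptsMap ξ d δ)
    have hfac : π ≫ imgι hX f = f := fet_ext fun p a => rfl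
    have hβ1 : ptsMap ξ π (ptsMap ξ (imgι hX f) β) = ptsMap ξ d δ :=
      (congrArg (fun k => ptsMap ξ k β) hfac).trans hβ
    have hβ' : ptsMap ξ (prodLiftHom π d) (ptsMap ξ (prodFst _ _) (ptsMap ξ (imgι hX f) β)) =
        ptsMap ξ (prodLiftHom π d) (ptsMap ξ (prodSnd _ _) δ) := by
      rw [← ptsMap_comp, ← ptsMap_comp]
      exact hβ1
    have hinj : Function.Injective (ptsMap ξ (prodLiftHom π d)) :=
      injective_ptsMap_of_surjective ξ _ (splitMap_bijective hX π hπ ξ.base).2
    have := (bijective_pts_prod ξ (imgObj hX f) D).1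
      (a₁ := Sum.inl (ptsMap ξ (imgι hX f) β)) (a₂ := Sum.inr δ) (hinj hβ')
    simp at this
  have hD0 : ∀ (p : X.pt) (P : PrimeSpectrum (X.ring p)),
      Module.rankAtStalk (D.obj.carrier p) P = 0 := by
    intro p P
    rw [rank_const hX hwc D p ξ.base P (ptPrime ξ), ← card_pts ξ D]
    exact Nat.card_of_isEmpty
  have hsub : ∀ p, Subsingleton (D.obj.carrier p) := fun p =>
    have := fet_modFP hX D p
    Module.rankAtStalk_eq_zero_iff_subsingleton.mp (funext (hD0 p))
  have hinj : ∀ p, Function.Injective (f.hom.app p) := by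
    intro p a b hab
    have : Subsingleton ((complAlg hX π hπ).carrier p) := hsub p
    exact (splitMap_bijective hX π hπ p).1 (Prod.ext (Subtype.ext hab) (Subsingleton.elim _ _))
  refine isIso_of_bijective f fun p => bijective_of_injective_of_rank hX f p (hinj p) fun P => ?_
  rw [rank_const hX hwc A p ξ.base P (ptPrime ξ), rank_const hX hwc B p ξ.base P (ptPrime ξ),
    ← card_pts ξ A, ← card_pts ξ B]
  exact (Nat.card_congr (Equiv.ofBijective _ hf)).symm

end Groth.Agent.SchFinLib
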