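import Groth.Agent.SchFinLib.Wedge
import Groth.Prelude.Def_SchFin2
import Mathlib.RingTheory.Flat.FaithfullyFlat.Algebra
import Mathlib.RingTheory.Spectrum.Prime.RingHom
import Mathlib.Algebra.Algebra.Basic
import Mathlib.RingTheory.LocalRing.ResidueField.Ideal

/-!
# Schematic points
-/

set_option autoImplicit false

open TensorProduct

namespace Groth.Agent.SchFinLib

open SchFin

universe u

lemma exists_lift_pair {R A B T : Type u} [CommRing R] [CommRing A] [CommRing B] [CommRing T]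
    [Algebra R A] [Algebra R B] (il : A →+* T) (ir : B →+* T)
    (h : ∀ r, il (algebraMap R A r) = ir (algebraMap R B r)) :
    ∃ l : A ⊗[R] B →+* T, (∀ a, l (a ⊗ₜ 1) = il a) ∧ ∀ b, l (1 ⊗ₜ b) = ir b := by
  letI : Algebra R T := (il.comp (algebraMap R A)).toAlgebra
  refine ⟨(Algebra.TensorProduct.lift (R := R) (S := R)
    ({ toRingHom := il, commutes' := fun _ => rfl } : A →ₐ[R] T)
    ({ toRingHom := ir, commutes' := fun r => (h r).symm } : B →ₐ[R] T)
    (fun _ _ => .all _ _)).toRingHom, fun a => ?_, fun b => ?_⟩ <;>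
    simp [Algebra.TensorProduct.lift_tmul]

lemma exists_prime_over_pair {R A B : Type u} [CommRing R] [CommRing A] [CommRing B] [Algebra R A]
    [Algebra R B] (P : PrimeSpectrum A) (Q : PrimeSpectrum B)
    (h : P.comap (algebraMap R A) = Q.comap (algebraMap R B)) :
    ∃ Z : PrimeSpectrum (A ⊗[R] B),
      Z.comap (Algebra.TensorProduct.includeLeftRingHom (R := R)) = P ∧
      Z.comap (Algebra.TensorProduct.includeRight : B →ₐ[R] A ⊗[R] B).toRingHom = Q := by
  let p := P.comap (algebraMap R A)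
  let f : p.asIdeal.ResidueField →+* P.asIdeal.ResidueField :=
    Ideal.ResidueField.map _ _ (algebraMap R A) rfl
  let g : p.asIdeal.ResidueField →+* Q.asIdeal.ResidueField :=
    Ideal.ResidueField.map _ _ (algebraMap R B) (congrArg PrimeSpectrum.asIdeal h)
  letI := f.toAlgebra
  letI := g.toAlgebra
  let T := P.asIdeal.ResidueField ⊗[p.asIdeal.ResidueField] Q.asIdeal.ResidueField
  let il : A →+* T := Algebra.TensorProduct.includeLeftRingHom.comp
    (algebraMap A P.asIdeal.ResidueField)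
  let ir : B →+* T :=
    (Algebra.TensorProduct.includeRight (R := p.asIdeal.ResidueField)
      (A := P.asIdeal.ResidueField) (B := Q.asIdeal.ResidueField)).toRingHom.comp
    (algebraMap B Q.asIdeal.ResidueField)
  obtain ⟨l, hl1, hl2⟩ := exists_lift_pair (R := R) il ir (fun r => by
    show algebraMap A P.asIdeal.ResidueField (algebraMap R A r) ⊗ₜ (1 : Q.asIdeal.ResidueField) =
      ((1 : P.asIdeal.ResidueField) ⊗ₜ[p.asIdeal.ResidueField]
        algebraMap B Q.asIdeal.ResidueField (algebraMap R B r) : T)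
    rw [← Ideal.ResidueField.map_algebraMap p.asIdeal Q.asIdeal (algebraMap R B)
      (congrArg PrimeSpectrum.asIdeal h) r,
      ← Ideal.ResidueField.map_algebraMap p.asIdeal P.asIdeal (algebraMap R A) rfl r]
    exact Algebra.TensorProduct.tmul_one_eq_one_tmul _)
  have : Nontrivial T := inferInstance
  obtain ⟨M, hM⟩ := Ideal.exists_maximal T
  refine ⟨PrimeSpectrum.comap l ⟨M, hM.isPrime⟩, ?_, ?_⟩
  · have hcomp : l.comp Algebra.TensorProduct.includeLeftRingHom = il :=
      RingHom.ext hl1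
    rw [← PrimeSpectrum.comap_comp_apply, hcomp]
    refine PrimeSpectrum.ext ?_
    show Ideal.comap (algebraMap A P.asIdeal.ResidueField)
      (Ideal.comap Algebra.TensorProduct.includeLeftRingHom M) = P.asIdeal
    rw [Ideal.eq_bot_of_prime (Ideal.comap Algebra.TensorProduct.includeLeftRingHom M),
      ← RingHom.ker_eq_comap_bot, Ideal.ker_algebraMap_residueField]
  · have hcomp : l.comp
        (Algebra.TensorProduct.includeRight : B →ₐ[R] A ⊗[R] B).toRingHom = ir := RingHom.ext hl2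
    rw [← PrimeSpectrum.comap_comp_apply, hcomp]
    refine PrimeSpectrum.ext ?_
    show Ideal.comap (algebraMap B Q.asIdeal.ResidueField)
      (Ideal.comap (Algebra.TensorProduct.includeRight (R := p.asIdeal.ResidueField)
        (A := P.asIdeal.ResidueField) (B := Q.asIdeal.ResidueField)).toRingHom M) = Q.asIdeal
    rw [Ideal.eq_bot_of_prime (Ideal.comap (Algebra.TensorProduct.includeRight
        (R := p.asIdeal.ResidueField) (A := P.asIdeal.ResidueField)
        (B := Q.asIdeal.ResidueField)).toRingHom M),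
      ← RingHom.ker_eq_comap_bot, Ideal.ker_algebraMap_residueField]

variable {X : RSpace.{u}}

/-- the faithful flatness hypothesis on intersections -/
def HFF (X : RSpace.{u}) : Prop :=
  ∀ s a b : X.pt, s ≤ a → s ≤ b → (X.up a ∩ X.up b).Nonempty →
    Module.FaithfullyFlat (X.sectRing (X.up a ∩ X.up b)) ((q : ↥(X.up a ∩ X.up b)) → X.ring q.1)

lemma pairRel_of_comap_eq (hX : X.IsSchematic) (hff : HFF X) {s x y : X.pt} (hx : s ≤ x)
    (hy : s ≤ y) (P : PrimeSpectrum (X.ring x)) (Q : PrimeSpectrum (X.ring y))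
    (hPQ : P.comap (X.res hx) = Q.comap (X.res hy)) : X.PairRel ⟨x, P⟩ ⟨y, Q⟩ := by
  letI := (X.res hx).toAlgebra
  letI := (X.res hy).toAlgebra
  obtain ⟨Z, hZP, hZQ⟩ := exists_prime_over_pair (R := X.ring s) P Q hPQ
  let e := RingEquiv.ofBijective (pairMap hx hy) (pairMap_bijective hx hy hX)
  let W : PrimeSpectrum (X.sectRing (X.up x ∩ X.up y)) := PrimeSpectrum.comap e.symm.toRingHom Z
  have hne : (X.up x ∩ X.up y).Nonempty := by
    by_contra hemp
    refine W.2.ne_top ((Ideal.eq_top_iff_one _).mpr ?_)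
    have : (1 : X.sectRing (X.up x ∩ X.up y)) = 0 :=
      Subtype.ext (funext fun q => absurd ⟨q.1, q.2⟩ hemp)
    rw [this]
    exact W.asIdeal.zero_mem
  have := hff s x y hx hy hne
  obtain ⟨V, hV⟩ := PrimeSpectrum.comap_surjective_of_faithfullyFlat
    (B := (q : ↥(X.up x ∩ X.up y)) → X.ring q.1) W
  obtain ⟨⟨q, r⟩, rfl⟩ := (PrimeSpectrum.sigmaToPiHomeo _).surjective V
  have hW : W = r.comap (X.evalRing (X.up x ∩ X.up y) q) := hV.symm
  have hZ : Z = W.comap (pairMap hx hy) := by
    refine PrimeSpectrum.ext (Ideal.ext fun z => ?_)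
    show z ∈ Z.asIdeal ↔ e.symm (e z) ∈ Z.asIdeal
    rw [e.symm_apply_apply]
  refine ⟨q.1, q.2.1, q.2.2, r, ?_, ?_⟩
  · show _ = P
    rw [← hZP, hZ, hW, ← PrimeSpectrum.comap_comp_apply, ← PrimeSpectrum.comap_comp_apply]
    congr 1
    refine RingHom.ext fun t => ?_
    show X.res _ t = (pairMap hx hy (t ⊗ₜ 1)).1 q
    rw [show pairMap hx hy (t ⊗ₜ 1) = X.resSect x _ Set.inter_subset_left t by
      simp [pairMap, Algebra.TensorProduct.lift_tmul]]
    rfl
  · show _ = Q
    rw [← hZQ, hZ, hW, ← PrimeSpectrum.comap_comp_apply, ← PrimeSpectrum.comap_comp_apply]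
    congr 1
    refine RingHom.ext fun t => ?_
    show X.res _ t = (pairMap hx hy (1 ⊗ₜ t)).1 q
    rw [show pairMap hx hy (1 ⊗ₜ t) = X.resSect y _ Set.inter_subset_right t by
      simp [pairMap, Algebra.TensorProduct.lift_tmul]]
    rfl

lemma pairRel_equivalence (hX : X.IsSchematic) (hff : HFF X) : Equivalence X.PairRel := by
  refine ⟨fun a => ⟨a.1, le_rfl, le_rfl, a.2, ?_, ?_⟩, ?_, ?_⟩
  · exact PrimeSpectrum.ext (Ideal.ext fun t => by
      show X.res _ t ∈ a.2.asIdeal ↔ _
      rw [X.res_self])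
  · exact PrimeSpectrum.ext (Ideal.ext fun t => by
      show X.res _ t ∈ a.2.asIdeal ↔ _
      rw [X.res_self])
  · rintro a b ⟨z, hx, hy, r, h1, h2⟩
    exact ⟨z, hy, hx, r, h2, h1⟩
  · rintro a b c ⟨z, ha, hbz, r, h1, h2⟩ ⟨w, hbw, hc, r', h3, h4⟩
    obtain ⟨v, hzv, hwv, t, e1, e2⟩ :=
      pairRel_of_comap_eq hX hff hbz hbw r r' (h2.trans h3.symm)
    refine ⟨v, ha.trans hzv, hc.trans hwv, t, ?_, ?_⟩
    · refine Eq.trans ?_ h1
      show _ = PrimeSpectrum.comap (X.res ha) r
      rw [← show PrimeSpectrum.comap (X.res hzv) t = r from e1, ← PrimeSpectrum.comap_comp_apply]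
      congr 1
      exact RingHom.ext fun t => (X.res_comp ha hzv t).symm
    · refine Eq.trans ?_ h4
      show _ = PrimeSpectrum.comap (X.res hc) r'
      rw [← show PrimeSpectrum.comap (X.res hwv) t = r' from e2, ← PrimeSpectrum.comap_comp_apply]
      congr 1
      exact RingHom.ext fun t => (X.res_comp hc hwv t).symm

lemma existsUnique_maximal (hX : X.IsSchematic) (hff : HFF X) (c : X.SchPt) :
    ∃! a : X.Pair, Quot.mk X.PairRel a = c ∧
      ∀ b : X.Pair, Quot.mk X.PairRel b = c → b.1 ≤ a.1 := by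
  have hE := pairRel_equivalence hX hff
  have hrel : ∀ a b : X.Pair, Quot.mk X.PairRel a = Quot.mk X.PairRel b → X.PairRel a b :=
    fun a b h => hE.eqvGen_iff.mp (Quot.eqvGen_exact h)
  let S : Set X.pt := {x | ∃ a : X.Pair, Quot.mk X.PairRel a = c ∧ a.1 = x}
  have hS : S.Nonempty := by
    obtain ⟨a, ha⟩ := Quot.exists_rep c
    exact ⟨a.1, a, ha, rfl⟩
  obtain ⟨x, hxS, hmax⟩ := S.toFinite.exists_maximal hS
  obtain ⟨a, hac, rfl⟩ := hxS
  have hle : ∀ b : X.Pair, Quot.mk X.PairRel b = c → b.1 ≤ a.1 := by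
    intro b hb
    obtain ⟨z, hza, hzb, r, h1, h2⟩ := hrel a b (hac.trans hb.symm)
    have hzc : Quot.mk X.PairRel (⟨z, r⟩ : X.Pair) = c := by
      rw [← hac]
      refine (Quot.sound ?_).symm
      refine ⟨z, hza, le_rfl, r, h1, PrimeSpectrum.ext (Ideal.ext fun t => ?_)⟩
      show X.res _ t ∈ r.asIdeal ↔ _
      rw [X.res_self]
    exact hzb.trans (hmax ⟨⟨z, r⟩, hzc, rfl⟩ hza)
  refine ⟨a, ⟨hac, hle⟩, ?_⟩
  rintro ⟨x', P'⟩ ⟨hc', hle'⟩
  have hxx : x' = a.1 := le_antisymm (hle _ hc') (hle' _ hac)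
  subst hxx
  obtain ⟨z, hza, hzb, r, h1, h2⟩ := hrel a ⟨a.1, P'⟩ (hac.trans hc'.symm)
  exact congrArg (Sigma.mk a.1) (h2.symm.trans h1)

lemma res_epi (hX : X.IsSchematic) {x y : X.pt} (h : x ≤ y) {T : Type u} [CommRing T]
    (g₁ g₂ : X.ring y →+* T) (hg : g₁.comp (X.res h) = g₂.comp (X.res h)) : g₁ = g₂ := by
  letI := (X.res h).toAlgebra
  letI : Algebra (X.ring x) T := (g₁.comp (X.res h)).toAlgebra
  refine RingHom.ext fun t => ?_
  have he : (t ⊗ₜ[X.ring x] (1 : X.ring y)) = (1 : X.ring y) ⊗ₜ[X.ring x] t := by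
    apply (pairMap_bijective h h hX).1
    simp [pairMap, Algebra.TensorProduct.lift_tmul]
  let l : X.ring y ⊗[X.ring x] X.ring y →ₐ[X.ring x] T :=
    Algebra.TensorProduct.lift (R := X.ring x) (S := X.ring x)
      ({ toRingHom := g₁, commutes' := fun _ => rfl } : X.ring y →ₐ[X.ring x] T)
      ({ toRingHom := g₂, commutes' := fun r => (RingHom.congr_fun hg r).symm } :
        X.ring y →ₐ[X.ring x] T) (fun _ _ => .all _ _)
  have := congrArg l he
  simpa [l, Algebra.TensorProduct.lift_tmul] using this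

lemma bijective_localRingHom_res (hX : X.IsSchematic) {x y : X.pt} (h : x ≤ y)
    (P : Ideal (X.ring y)) [P.IsPrime] :
    Function.Bijective (Localization.localRingHom (P.comap (X.res h)) P (X.res h) rfl) := by
  letI := (X.res h).toAlgebra
  let Q := P.comap (X.res h)
  let A := Localization.AtPrime Q
  let B := Localization.AtPrime P
  let f := Localization.localRingHom Q P (X.res h) rfl
  letI : Algebra A B := f.toAlgebra
  haveI : IsScalarTower (X.ring x) A B := IsScalarTower.of_algebraMap_eq fun r =>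
    (Localization.localRingHom_to_map Q P (X.res h) rfl r).symm
  have : Module.Flat (X.ring x) (X.ring y) := hX.1.2 x y h
  have : Module.Flat (X.ring y) B := IsLocalization.flat _ P.primeCompl
  have : Module.Flat (X.ring x) B := Module.Flat.trans (X.ring x) (X.ring y) B
  have : Module.Flat A B := by
    exact Module.flat_iff_of_isLocalization A Q.primeCompl B |>.mpr inferInstance
  have : IsLocalHom (algebraMap A B) := Localization.isLocalHom_localRingHom Q P (X.res h) rfl
  have : Module.FaithfullyFlat A B := Module.FaithfullyFlat.of_flat_of_isLocalHom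
  have hT : ∀ b : B, b ⊗ₜ[A] (1 : B) = (1 : B) ⊗ₜ[A] b := by
    intro b
    have he : (Algebra.TensorProduct.includeLeftRingHom : B →+* B ⊗[A] B) =
        (Algebra.TensorProduct.includeRight : B →ₐ[A] B ⊗[A] B).toRingHom := by
      refine IsLocalization.ringHom_ext P.primeCompl (res_epi hX h _ _ (RingHom.ext fun r => ?_))
      show algebraMap (X.ring y) B (X.res h r) ⊗ₜ[A] (1 : B) =
        (1 : B) ⊗ₜ[A] algebraMap (X.ring y) B (X.res h r)
      rw [show algebraMap (X.ring y) B (X.res h r) = algebraMap A B (algebraMap (X.ring x) A r) from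
        (Localization.localRingHom_to_map Q P (X.res h) rfl r).symm]
      exact Algebra.TensorProduct.tmul_one_eq_one_tmul _
    exact RingHom.congr_fun he b
  refine ⟨FaithfulSMul.algebraMap_injective A B, ?_⟩
  refine (Module.FaithfullyFlat.lTensor_surjective_iff_surjective A B
    (Algebra.linearMap A B)).mp fun z => ?_
  induction z using TensorProduct.induction_on with
  | zero => exact ⟨0, map_zero _⟩
  | tmul b c =>
      refine ⟨(b * c) ⊗ₜ 1, ?_⟩
      rw [LinearMap.lTensor_tmul, Algebra.linearMap_apply, map_one]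
      calc (b * c) ⊗ₜ[A] (1 : B) = (b ⊗ₜ 1) * (c ⊗ₜ 1) := by
            rw [Algebra.TensorProduct.tmul_mul_tmul, one_mul]
        _ = (b ⊗ₜ 1) * (1 ⊗ₜ c) := by rw [hT c]
        _ = b ⊗ₜ c := by rw [Algebra.TensorProduct.tmul_mul_tmul, one_mul, mul_one]
  | add z w hz hw =>
      obtain ⟨z', rfl⟩ := hz
      obtain ⟨w', rfl⟩ := hw
      exact ⟨z' + w', map_add _ _ _⟩

lemma bijective_κMap (hX : X.IsSchematic) (a b : X.Pair) (h : a.1 ≤ b.1)
    (hp : PrimeSpectrum.comap (X.res h) b.2 = a.2) :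
    Function.Bijective (RSpace.Pair.κMap a b h hp) := by
  obtain ⟨x, P⟩ := a
  obtain ⟨y, Q⟩ := b
  change x ≤ y at h
  change PrimeSpectrum.comap (X.res h) Q = P at hp
  subst hp
  refine ⟨RingHom.injective _, fun t => ?_⟩
  obtain ⟨s, rfl⟩ := IsLocalRing.residue_surjective t
  obtain ⟨r, rfl⟩ := (bijective_localRingHom_res hX h Q.asIdeal).2 s
  exact ⟨IsLocalRing.residue _ r, rfl⟩

end Groth.Agent.SchFinLib
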