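import Groth.Prelude.Def_SchFin
import Mathlib.RingTheory.TensorProduct.Maps

/-!
# Degree zero of the schematic condition
-/

set_option autoImplicit false

open TensorProduct

namespace Groth.Agent.SchFinLib

open SchFin

universe u

variable {X : RSpace.{u}} {U : Set X.pt}

/-- chain with one point -/
def chainOne (q : U) : Chain U 0 :=
  OrderEmbedding.ofStrictMono (fun _ => q) (fun i j h => absurd h (by omega))

lemma chainOne_apply (q : U) (i : Fin 1) : chainOne q i = q := rfl

lemma exists_eq_chainOne (σ : Chain U 0) : ∃ q, σ = chainOne q :=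
  ⟨σ (Fin.last 0), RelEmbedding.ext fun i => by
    rw [show i = Fin.last 0 from Fin.ext (by omega)]
    rfl⟩

/-- chain with two points -/
def chainTwo (q q' : U) (h : q < q') : Chain U 1 :=
  OrderEmbedding.ofStrictMono ![q, q'] (fun i j hij => by
    match i, j, hij with
    | 0, 1, _ => exact h
    | 0, 0, h => exact absurd h (lt_irrefl _)
    | 1, 0, h => exact absurd h (by simp)
    | 1, 1, h => exact absurd h (lt_irrefl _))

variable {R : Type u} [CommRing R] (φ : Coef X U R) (s : X.sectRing U)

/-- a section as a cochain -/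
def sectCochain : Cochain φ X.str 0 := fun σ => s.1 (σ (Fin.last 0))

lemma sectCochain_mem : sectCochain φ s ∈ cocycles φ X.str 0 := by
  show diff φ X.str 0 (sectCochain φ s) = 0
  funext σ
  show (∑ j : Fin 2, ((-1 : ℤ) ^ (j : ℕ)) • (sectCochain φ s).faceVal σ j) = 0
  have hj : ∀ j : Fin 2, (sectCochain φ s).faceVal σ j = s.1 (σ (Fin.last 1)) :=
    fun j => s.2 (σ.face j (Fin.last 0)) (σ (Fin.last 1)) (Chain.face_last_le j σ)
  rw [Fin.sum_univ_two, hj, hj]
  exact (congrArg₂ (· + ·) (one_zsmul _) (neg_one_zsmul _)).trans (add_neg_cancel _)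

/-- sections to degree zero cohomology -/
def sectToH : H φ X.str 0 := H.mk φ X.str 0 ⟨sectCochain φ s, sectCochain_mem φ s⟩

lemma sectToH_injective {s t : X.sectRing U} (h : sectToH φ s = sectToH φ t) : s = t := by
  have h' := (Submodule.Quotient.eq _).mp h
  change sectCochain φ s - sectCochain φ t ∈ (⊥ : Submodule R (Cochain φ X.str 0)) at h'
  rw [Submodule.mem_bot, sub_eq_zero] at h'
  exact Subtype.ext (funext fun q => congrFun h' (chainOne q))

lemma sectToH_surjective (c : H φ X.str 0) : ∃ s, sectToH φ s = c := by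
  obtain ⟨⟨z, hz⟩, rfl⟩ := Submodule.Quotient.mk_surjective _ c
  have hz' : ∀ q q' : U, ∀ h : q < q', X.res h.le (z (chainOne q)) = z (chainOne q') := by
    intro q q' h
    have h1 := congrFun (show diff φ X.str 0 z = 0 from hz) (chainTwo q q' h)
    change (∑ j : Fin 2, ((-1 : ℤ) ^ (j : ℕ)) • z.faceVal (chainTwo q q' h) j) = 0 at h1
    rw [Fin.sum_univ_two] at h1
    have e0 : (chainTwo q q' h).face 0 = chainOne q' := RelEmbedding.ext fun i => by
      rw [show i = 0 from Fin.ext (by omega)]
      rfl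
    have e1 : (chainTwo q q' h).face 1 = chainOne q := RelEmbedding.ext fun i => by
      rw [show i = 0 from Fin.ext (by omega)]
      rfl
    have key : ∀ (q₀ : U) (τ : Chain U 0) (hτ : τ = chainOne q₀) (hle : (τ (Fin.last 0)).1 ≤ q'.1)
        (hle' : q₀.1 ≤ q'.1), X.res hle (z τ) = X.res hle' (z (chainOne q₀)) := by
      rintro q₀ _ rfl hle hle'
      rfl
    have f0 : z.faceVal (chainTwo q q' h) 0 = z (chainOne q') := by
      refine (key q' _ e0 (Chain.face_last_le 0 (chainTwo q q' h)) le_rfl).trans ?_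
      exact X.res_self _ _
    have f1 : z.faceVal (chainTwo q q' h) 1 = X.res h.le (z (chainOne q)) :=
      key q _ e1 (Chain.face_last_le 1 (chainTwo q q' h)) h.le
    rw [f0, f1] at h1
    have h2 := ((congrArg₂ (· + ·) (one_zsmul _) (neg_one_zsmul _)).symm.trans h1)
    exact (add_neg_eq_zero.mp h2).symm
  refine ⟨⟨fun q => z (chainOne q), fun q q' h => ?_⟩, ?_⟩
  · rcases lt_or_eq_of_le (show q ≤ q' from h) with hlt | rfl
    · exact hz' q q' hlt
    · exact X.res_self _ _
  · refine congrArg (Submodule.Quotient.mk) (Subtype.ext (funext fun σ => ?_))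
    obtain ⟨q, rfl⟩ := exists_eq_chainOne σ
    rfl

lemma sectToH_add (s t : X.sectRing U) : sectToH φ (s + t) = sectToH φ s + sectToH φ t :=
  map_add (H.mk φ X.str 0) ⟨_, sectCochain_mem φ s⟩ ⟨_, sectCochain_mem φ t⟩

lemma sectToH_zero : sectToH φ (0 : X.sectRing U) = 0 :=
  (congrArg _ (Subtype.ext rfl : (⟨_, sectCochain_mem φ (0 : X.sectRing U)⟩ : cocycles φ X.str 0) = 0)).trans
    (map_zero (H.mk φ X.str 0))

variable (X) in
/-- the wedge of two points -/
abbrev meet (a b : X.pt) : Set X.pt := (Hom.id X).wedge a b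

section Pair

variable {s₀ a b : X.pt} (ha : s₀ ≤ a) (hb : s₀ ≤ b)

/-- the pairing map `R_a ⊗_{R_s} R_b → Γ(U_a ∩ U_b)` -/
noncomputable def pairMap :
    letI := (X.res ha).toAlgebra
    letI := (X.res hb).toAlgebra
    X.ring a ⊗[X.ring s₀] X.ring b →+* X.sectRing (X.up a ∩ X.up b) :=
  letI := (X.res ha).toAlgebra
  letI := (X.res hb).toAlgebra
  letI : Algebra (X.ring s₀) (X.sectRing (X.up a ∩ X.up b)) :=
    ((X.resSect a (X.up a ∩ X.up b) Set.inter_subset_left).comp (X.res ha)).toAlgebra
  (Algebra.TensorProduct.lift (R := X.ring s₀) (S := X.ring s₀)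
    ({ toRingHom := X.resSect a (X.up a ∩ X.up b) Set.inter_subset_left, commutes' := fun _ => rfl } :
      X.ring a →ₐ[X.ring s₀] X.sectRing (X.up a ∩ X.up b))
    ({ toRingHom := X.resSect b (X.up a ∩ X.up b) Set.inter_subset_right,
       commutes' := fun r => Subtype.ext (funext fun q => by
        exact (X.res_comp hb _ r).trans (X.res_comp ha _ r).symm) } :
      X.ring b →ₐ[X.ring s₀] X.sectRing (X.up a ∩ X.up b))
    (fun _ _ => .all _ _)).toRingHom

lemma pairMap_bijective (hX : X.IsSchematic) :
    letI := (X.res ha).toAlgebra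
    letI := (X.res hb).toAlgebra
    Function.Bijective (pairMap ha hb) := by
  letI := (X.res ha).toAlgebra
  letI := (X.res hb).toAlgebra
  have hbc := (hX.2.2 0 s₀ a ha b b le_rfl).1
  let φ := Coef.ofLE s₀ (meet X s₀ b) ((Hom.id X).wedge_subset_up s₀ b)
  let φ' := Coef.ofLE a (meet X a b) ((Hom.id X).wedge_subset_up a b)
  letI : Module (X.ring s₀) (H φ' X.str 0) := Module.compHom (H φ' X.str 0) (X.res ha)
  haveI : IsScalarTower (X.ring s₀) (X.ring a) (H φ' X.str 0) :=
    IsScalarTower.of_algebraMap_smul fun _ _ => rfl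
  let ι : X.ring b →ₗ[X.ring s₀] H φ X.str 0 :=
    (H.mk φ X.str 0).comp
      ({ toFun := fun t => ⟨sectCochain φ (X.resSect b (meet X s₀ b) (fun q hq => hq.2) t),
           sectCochain_mem φ _⟩
         map_add' := fun t t' => Subtype.ext (funext fun σ => map_add _ _ _)
         map_smul' := fun r t => Subtype.ext (funext fun σ => by
           refine (map_mul (X.res _) _ _).trans ?_
           exact congrArg (fun w => w * X.res (show b ≤ (σ (Fin.last 0)).1 from (σ (Fin.last 0)).2.2) t)
             (X.res_comp hb (show b ≤ (σ (Fin.last 0)).1 from (σ (Fin.last 0)).2.2) r)) } :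
        X.ring b →ₗ[X.ring s₀] ↥(cocycles φ X.str 0))
  have hι : Function.Bijective ι := by
    constructor
    · intro t t' h
      have := sectToH_injective φ (s := X.resSect b (meet X s₀ b) (fun q hq => hq.2) t)
        (t := X.resSect b (meet X s₀ b) (fun q hq => hq.2) t') h
      have hb' : b ∈ meet X s₀ b := ⟨hb, le_refl b⟩
      simpa [RSpace.resSect, X.res_self] using congrFun (congrArg Subtype.val this) ⟨b, hb'⟩
    · intro c
      obtain ⟨z, rfl⟩ := sectToH_surjective φ c
      have hb' : b ∈ meet X s₀ b := ⟨hb, le_refl b⟩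
      refine ⟨z.1 ⟨b, hb'⟩, congrArg (sectToH φ) (Subtype.ext (funext fun q => ?_))⟩
      exact z.2 ⟨b, hb'⟩ q q.2.2
  let l : H φ X.str 0 →ₗ[X.ring s₀] H φ' X.str 0 :=
    { toFun := resH X.str ((Hom.id X).subSrc ha b) 0
      map_add' := map_add _
      map_smul' := fun r x => LinearMap.map_smulₛₗ (resH X.str ((Hom.id X).subSrc ha b) 0) r x }
  have hl : IsBaseChange (X.ring a) l := hbc
  have key : ∀ z : X.ring a ⊗[X.ring s₀] X.ring b,
      sectToH φ' (pairMap ha hb z) = hl.equiv (LinearMap.lTensor (X.ring a) ι z) := by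
    intro z
    induction z using TensorProduct.induction_on with
    | zero =>
        rw [map_zero, map_zero, map_zero]
        exact sectToH_zero φ'
    | tmul r t =>
        rw [LinearMap.lTensor_tmul, IsBaseChange.equiv_tmul]
        rfl
    | add z w hz hw => rw [map_add, map_add, map_add, ← hz, ← hw]; exact sectToH_add φ' _ _
  constructor
  · intro z w h
    have h' := congrArg (sectToH φ') h
    rw [key, key] at h'
    exact (LinearEquiv.lTensor (X.ring a) (LinearEquiv.ofBijective ι hι)).injective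
      (hl.equiv.injective h')
  · intro c
    obtain ⟨w, hw⟩ := (LinearEquiv.lTensor (X.ring a) (LinearEquiv.ofBijective ι hι)).surjective
      (hl.equiv.symm (sectToH φ' c))
    refine ⟨w, sectToH_injective φ' ?_⟩
    rw [key]
    exact (congrArg hl.equiv hw).trans (hl.equiv.apply_symm_apply _)

end Pair

end Groth.Agent.SchFinLib
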