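import Groth.Agent.SchFinLib.Summand
import Mathlib.CategoryTheory.Limits.Shapes.Pullback.HasPullback
import Mathlib.CategoryTheory.Limits.Shapes.Terminal
import Mathlib.CategoryTheory.Limits.Shapes.BinaryProducts

/-!
# Finite limits and colimits of étale covers
-/

set_option autoImplicit false

open TensorProduct CategoryTheory CategoryTheory.Limits

namespace Groth.Agent.SchFinLib

open SchFin

universe u

variable {X : RSpace.{u}}

/-- map from the trivial cover -/
noncomputable def strTo (A : FEt X) : strObj ⟶ A :=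
  fetHomMk (fun p => Algebra.ofId (X.ring p) (A.obj.carrier p)) (fun h a => A.obj.res_algebraMap h a)

/-- the trivial cover is initial -/
noncomputable def strIsInitial : IsInitial (strObj : FEt X) :=
  IsInitial.ofUniqueHom strTo fun A m => fet_ext fun p a => by
    exact ((m.hom.app p).commutes a).trans ((Algebra.ofId (X.ring p) (A.obj.carrier p)).commutes a).symm

/-- map to zero -/
noncomputable def toZero (A : FEt X) : A ⟶ zeroObj :=
  fetHomMk (fun p =>
    { toFun := fun _ => PUnit.unit
      map_one' := rfl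
      map_mul' := fun _ _ => rfl
      map_zero' := rfl
      map_add' := fun _ _ => rfl
      commutes' := fun _ => rfl }) (fun _ _ => rfl)

/-- the zero cover is terminal -/
noncomputable def zeroIsTerminal : IsTerminal (zeroObj : FEt X) :=
  IsTerminal.ofUniqueHom toZero fun A m => fet_ext fun p a => rfl

/-- first projection -/
def prodFst (A B : FEt X) : prodObj A B ⟶ A :=
  fetHomMk (fun p => AlgHom.fst (X.ring p) _ _) (fun _ _ => rfl)

/-- second projection -/
def prodSnd (A B : FEt X) : prodObj A B ⟶ B :=
  fetHomMk (fun p => AlgHom.snd (X.ring p) _ _) (fun _ _ => rfl)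

/-- pairing -/
def prodLiftHom {A B T : FEt X} (f : T ⟶ A) (g : T ⟶ B) : T ⟶ prodObj A B :=
  fetHomMk (fun p => (f.hom.app p).prod (g.hom.app p))
    (fun h t => Prod.ext (f.hom.compat h t) (g.hom.compat h t))

/-- the product is a product -/
def prodIsLimit (A B : FEt X) : IsLimit (BinaryFan.mk (prodFst A B) (prodSnd A B)) :=
  BinaryFan.isLimitMk (fun s => prodLiftHom s.fst s.snd) (fun s => fet_ext fun p a => rfl)
    (fun s => fet_ext fun p a => rfl)
    (fun s m h1 h2 => fet_ext fun p a =>
      Prod.ext (congrArg (fun k => k.hom.app p a) h1) (congrArg (fun k => k.hom.app p a) h2))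

lemma hasBinaryProducts : HasBinaryProducts (FEt X) := by
  have : ∀ A B : FEt X, HasLimit (pair A B) := fun A B => HasLimit.mk ⟨_, prodIsLimit A B⟩
  exact hasBinaryProducts_of_hasLimit_pair _

/-- left coprojection of a pushout -/
noncomputable def pushInl {A B C : FEt X} (hX : X.IsSchematic) (f : C ⟶ A) (g : C ⟶ B) :
    A ⟶ pushObj hX f g :=
  fetHomMk (fun p => Push.inl (f.hom.app p) (g.hom.app p)) (fun {p q} h a => by
    letI : Algebra (X.ring p) (X.ring q) := (X.res h).toAlgebra
    exact Push.map_inl (A.obj.res h) (A.obj.res_algebraMap h) (B.obj.res h) (B.obj.res_algebraMap h)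
      (C.obj.res h) (f.hom.app p) (g.hom.app p) (f.hom.app q) (g.hom.app q)
      (fun x => (f.hom.compat h x).symm) (fun x => (g.hom.compat h x).symm) a)

/-- right coprojection of a pushout -/
noncomputable def pushInr {A B C : FEt X} (hX : X.IsSchematic) (f : C ⟶ A) (g : C ⟶ B) :
    B ⟶ pushObj hX f g :=
  fetHomMk (fun p => Push.inr (f.hom.app p) (g.hom.app p)) (fun {p q} h a => by
    letI : Algebra (X.ring p) (X.ring q) := (X.res h).toAlgebra
    exact Push.map_inr (A.obj.res h) (A.obj.res_algebraMap h) (B.obj.res h) (B.obj.res_algebraMap h)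
      (C.obj.res h) (f.hom.app p) (g.hom.app p) (f.hom.app q) (g.hom.app q)
      (fun x => (f.hom.compat h x).symm) (fun x => (g.hom.compat h x).symm) a)

lemma push_w {A B C : FEt X} (hX : X.IsSchematic) (f : C ⟶ A) (g : C ⟶ B) :
    f ≫ pushInl hX f g = g ≫ pushInr hX f g :=
  fet_ext fun p a => AlgHom.congr_fun (Push.condition (f.hom.app p) (g.hom.app p)) a

/-- descent from a pushout -/
noncomputable def pushDesc {A B C T : FEt X} (hX : X.IsSchematic) (f : C ⟶ A) (g : C ⟶ B)
    (φ : A ⟶ T) (ψ : B ⟶ T) (w : f ≫ φ = g ≫ ψ) : pushObj hX f g ⟶ T :=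
  fetHomMk (fun p => Push.desc (f.hom.app p) (g.hom.app p) (φ.hom.app p) (ψ.hom.app p)
    (AlgHom.ext fun a => congrArg (fun k => k.hom.app p a) w)) (fun {p q} h a => by
    refine RingHom.congr_fun (f := (T.obj.res h).comp (Push.desc (f.hom.app p) (g.hom.app p)
      (φ.hom.app p) (ψ.hom.app p) (AlgHom.ext fun a => congrArg (fun k => k.hom.app p a) w)).toRingHom)
      (g := (Push.desc (f.hom.app q) (g.hom.app q) (φ.hom.app q) (ψ.hom.app q)
        (AlgHom.ext fun a => congrArg (fun k => k.hom.app q a) w)).toRingHom.comp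
        ((pushObj hX f g).obj.res h)) (Push.hom_ext _ _ (fun x => ?_) (fun x => ?_)) a
    · have := app_res (pushInl hX f g) h x
      simp only [RingHom.comp_apply, AlgHom.toRingHom_eq_coe, RingHom.coe_coe]
      rw [Push.desc_inl, app_res φ h]
      exact ((congrArg _ this).trans (Push.desc_inl (f.hom.app q) (g.hom.app q) (φ.hom.app q)
        (ψ.hom.app q) (AlgHom.ext fun a => congrArg (fun k => k.hom.app q a) w)
        (A.obj.res h x))).symm
    · have := app_res (pushInr hX f g) h x
      simp only [RingHom.comp_apply, AlgHom.toRingHom_eq_coe, RingHom.coe_coe]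
      rw [Push.desc_inr, app_res ψ h]
      exact ((congrArg _ this).trans (Push.desc_inr (f.hom.app q) (g.hom.app q) (φ.hom.app q)
        (ψ.hom.app q) (AlgHom.ext fun a => congrArg (fun k => k.hom.app q a) w)
        (B.obj.res h x))).symm)

/-- the pushout is a pushout -/
noncomputable def pushIsColimit {A B C : FEt X} (hX : X.IsSchematic) (f : C ⟶ A) (g : C ⟶ B) :
    IsColimit (PushoutCocone.mk _ _ (push_w hX f g)) :=
  PushoutCocone.IsColimit.mk _ (fun s => pushDesc hX f g s.inl s.inr s.condition)
    (fun s => fet_ext fun p a => Push.desc_inl (f.hom.app p) (g.hom.app p) (s.inl.hom.app p)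
      (s.inr.hom.app p) (AlgHom.ext fun b => congrArg (fun k => k.hom.app p b) s.condition) a)
    (fun s => fet_ext fun p a => Push.desc_inr (f.hom.app p) (g.hom.app p) (s.inl.hom.app p)
      (s.inr.hom.app p) (AlgHom.ext fun b => congrArg (fun k => k.hom.app p b) s.condition) a)
    (fun s m h1 h2 => fet_ext fun p a => by
      refine RingHom.congr_fun (f := (m.hom.app p).toRingHom) (g := (Push.desc (T := s.pt.obj.carrier p) (f.hom.app p)
        (g.hom.app p) (s.inl.hom.app p) (s.inr.hom.app p)
        (AlgHom.ext fun a => congrArg (fun k => k.hom.app p a) s.condition)).toRingHom)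
        (Push.hom_ext _ _ (fun x => ?_) (fun x => ?_)) a
      · exact (congrArg (fun k => k.hom.app p x) h1).trans
          (Push.desc_inl (f.hom.app p) (g.hom.app p) (s.inl.hom.app p) (s.inr.hom.app p)
            (AlgHom.ext fun a => congrArg (fun k => k.hom.app p a) s.condition) x).symm
      · exact (congrArg (fun k => k.hom.app p x) h2).trans
          (Push.desc_inr (f.hom.app p) (g.hom.app p) (s.inl.hom.app p) (s.inr.hom.app p)
            (AlgHom.ext fun a => congrArg (fun k => k.hom.app p a) s.condition) x).symm)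

lemma hasPushouts (hX : X.IsSchematic) : HasPushouts (FEt X) := by
  have : ∀ {C A B : FEt X} {f : C ⟶ A} {g : C ⟶ B}, HasColimit (span f g) :=
    fun {C A B f g} => HasColimit.mk ⟨_, pushIsColimit hX f g⟩
  exact hasPushouts_of_hasColimit_span _

/-- the splitting along a surjection -/
noncomputable def splitIsLimit {A B : FEt X} (hX : X.IsSchematic) (f : A ⟶ B)
    (hf : ∀ p : X.pt, Function.Surjective (f.hom.app p)) :
    IsLimit (BinaryFan.mk f (complπ hX f hf)) := by
  have : IsIso (prodLiftHom f (complπ hX f hf)) :=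
    isIso_of_bijective _ fun p => splitMap_bijective hX f hf p
  refine IsLimit.ofIsoLimit (prodIsLimit _ _)
    (BinaryFan.ext (asIso (prodLiftHom f (complπ hX f hf))).symm ?_ ?_)
  · show prodFst _ _ = inv (prodLiftHom f (complπ hX f hf)) ≫ f
    rw [IsIso.eq_inv_comp]
    exact fet_ext fun p a => rfl
  · show prodSnd _ _ = inv (prodLiftHom f (complπ hX f hf)) ≫ complπ hX f hf
    rw [IsIso.eq_inv_comp]
    exact fet_ext fun p a => rfl

lemma injective_of_mono (hX : X.IsSchematic) {A B : FEt X} (f : A ⟶ B) [Mono f] (p : X.pt) :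
    Function.Injective (f.hom.app p) := by
  let π := imgπ hX f
  have hπ : ∀ p, Function.Surjective (π.hom.app p) := fun p => (f.hom.app p).rangeRestrict_surjective
  let D := complObj hX π hπ
  let d := complπ hX π hπ
  have : IsIso (prodLiftHom π d) := isIso_of_bijective _ fun p => splitMap_bijective hX π hπ p
  let u : prodObj A D ⟶ A :=
    prodLiftHom (prodFst A D ≫ π) (prodSnd A D) ≫ inv (prodLiftHom π d)
  have hu : u ≫ π = prodFst A D ≫ π := by
    have h1 : inv (prodLiftHom π d) ≫ π = prodFst _ _ := by
      rw [IsIso.inv_comp_eq]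
      exact fet_ext fun p a => rfl
    show (prodLiftHom (prodFst A D ≫ π) (prodSnd A D) ≫ inv (prodLiftHom π d)) ≫ π = _
    rw [Category.assoc, h1]
    exact fet_ext fun p a => rfl
  have hu' : u ≫ d = prodSnd A D := by
    have h1 : inv (prodLiftHom π d) ≫ d = prodSnd _ _ := by
      rw [IsIso.inv_comp_eq]
      exact fet_ext fun p a => rfl
    show (prodLiftHom (prodFst A D ≫ π) (prodSnd A D) ≫ inv (prodLiftHom π d)) ≫ d = _
    rw [Category.assoc, h1]
    exact fet_ext fun p a => rfl
  have hf : π ≫ imgι hX f = f := fet_ext fun p a => rfl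
  have he : u = prodFst A D := by
    rw [← cancel_mono f, ← hf, ← Category.assoc, hu, Category.assoc]
  rw [he] at hu'
  intro a b hab
  refine (splitMap_bijective hX π hπ p).1 (Prod.ext (Subtype.ext hab) ?_)
  have h : ∀ x, d.hom.app p x = 0 := fun x =>
    congrArg (fun k => k.hom.app p ((x, 0) : A.obj.carrier p × D.obj.carrier p)) hu'
  exact (h a).trans (h b).symm

lemma mono_of_injective {A B : FEt X} (f : A ⟶ B)
    (hf : ∀ p : X.pt, Function.Injective (f.hom.app p)) : Mono f :=
  ⟨fun g h e => fet_ext fun p a => hf p (congrArg (fun k => k.hom.app p a) e)⟩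

lemma epi_of_surjective {A B : FEt X} (f : A ⟶ B)
    (hf : ∀ p : X.pt, Function.Surjective (f.hom.app p)) : Epi f :=
  ⟨fun g h e => fet_ext fun p b => by
    obtain ⟨a, rfl⟩ := hf p b
    exact congrArg (fun k => k.hom.app p a) e⟩

end Groth.Agent.SchFinLib
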