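import Groth.Agent.SchFinLib.Rank
import Mathlib.CategoryTheory.Galois.Basic

/-!
# The Galois category of étale covers of a well connected finite space
-/

set_option autoImplicit false
set_option backward.isDefEq.respectTransparency false
set_option backward.isDefEq.respectTransparency.types false

open TensorProduct CategoryTheory CategoryTheory.Limits Opposite

namespace Groth.Agent.SchFinLib

open SchFin

universe u

variable {X : RSpace.{u}} {Ω : Type u} [Field Ω] [IsAlgClosed Ω] (ξ : GeomPt X Ω)

variable {G : Type u} [Group G] [Finite G] (K : SingleObj G ⥤ (FEt X)ᵒᵖ)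

instance finite_mulOpposite : Finite Gᵐᵒᵖ := Finite.of_equiv G MulOpposite.opEquiv

/-- the opposite action -/
def opAct : SingleObj (Gᵐᵒᵖ) ⥤ FEt X where
  obj _ := (K.obj (SingleObj.star G)).unop
  map g := (K.map (X := SingleObj.star G) (Y := SingleObj.star G) (MulOpposite.unop g)).unop
  map_id _ := congrArg Quiver.Hom.unop (K.map_id (SingleObj.star G))
  map_comp f g := congrArg Quiver.Hom.unop
    (K.map_comp (X := SingleObj.star G) (Y := SingleObj.star G) (Z := SingleObj.star G)
      (MulOpposite.unop g) (MulOpposite.unop f))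

variable (hX : X.IsSchematic)

/-- the quotient cocone -/
def quotCocone : Cocone K where
  pt := op (invObj (opAct K) hX)
  ι :=
    { app := fun _ => (invι (opAct K) hX).op
      naturality := fun i j g => Quiver.Hom.unop_inj (fet_ext fun p a => a.2 (MulOpposite.op g)) }

/-- the quotient is a colimit -/
def quotCoconeIsColimit : IsColimit (quotCocone K hX) where
  desc s := ((invConeIsLimit (opAct K) hX).lift
    { pt := s.pt.unop
      π :=
        { app := fun _ => (s.ι.app (SingleObj.star G)).unop
          naturality := fun i j g => Quiver.Hom.op_inj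
            (((Category.comp_id _).trans
              (s.w (j := SingleObj.star G) (j' := SingleObj.star G) (MulOpposite.unop g)).symm)) } }).op
  fac s j := Quiver.Hom.unop_inj (fet_ext fun p a => rfl)
  uniq s m hm := Quiver.Hom.unop_inj (fet_ext fun p a =>
    Subtype.ext (congrArg (fun k => k.unop.hom.app p a) (hm (SingleObj.star G))))

include hX in
lemma hasColimitsOfShape_singleObj : HasColimitsOfShape (SingleObj G) (FEt X)ᵒᵖ :=
  ⟨fun K => HasColimit.mk ⟨_, quotCoconeIsColimit K hX⟩⟩

omit [Finite G] in
lemma cocone_act (Φ : SingleObj G ⥤ FintypeCat.{u}) (s : Cocone Φ) (g : G)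
    (z : Φ.obj (SingleObj.star G)) :
    s.ι.app (SingleObj.star G) (Φ.map (X := SingleObj.star G) (Y := SingleObj.star G) g z) =
      s.ι.app (SingleObj.star G) z := by
  conv_rhs => rw [← s.w (j := SingleObj.star G) (j' := SingleObj.star G) g]
  rfl

include hX in
lemma pts_preservesQuotients : PreservesColimitsOfShape (SingleObj G) (ptsFunctor ξ) := by
  constructor
  intro K
  refine preservesColimit_of_preserves_colimit_cocone (quotCoconeIsColimit K hX) ?_
  let F := opAct K
  letI := ptAlgebra ξ
  let q : Pts ξ (actObj F) → Pts ξ (invObj F hX) := ptsMap ξ (invι F hX)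
  have hsurj : Function.Surjective q :=
    surjective_ptsMap_of_injective ξ (invι F hX) Subtype.val_injective
  have hfib : ∀ φ ψ : Pts ξ (actObj F), q φ = q ψ → ∃ g, ψ = ptsMap ξ (actMap F g) φ := by
    intro φ ψ h
    exact exists_point_conj (actApp F ξ.base) (fun g h a => actApp_mul F ξ.base g h a)
      (fun a => actApp_one F ξ.base a) φ ψ (fun a ha => AlgHom.congr_fun h ⟨a, ha⟩)
  refine
    { desc := fun s => FintypeCat.homMk fun z => s.ι.app (SingleObj.star G) (Classical.choose (hsurj z))
      fac := fun s j => ?_
      uniq := fun s m hm => ?_ }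
  · refine FintypeCat.hom_ext _ _ fun φ => ?_
    obtain ⟨g, hg⟩ := hfib _ _ (Classical.choose_spec (hsurj (q φ)))
    show s.ι.app (SingleObj.star G) (Classical.choose (hsurj (q φ))) = s.ι.app (SingleObj.star G) φ
    refine Eq.symm ((congrArg (fun z => s.ι.app (SingleObj.star G) z) hg).trans ?_)
    exact cocone_act (K ⋙ ptsFunctor ξ) s (MulOpposite.unop g) (Classical.choose (hsurj (q φ)))
  · refine FintypeCat.hom_ext _ _ fun z => ?_
    show m z = s.ι.app (SingleObj.star G) (Classical.choose (hsurj z))
    conv_lhs => rw [← Classical.choose_spec (hsurj z)]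
    exact congrArg (fun k => k.hom (Classical.choose (hsurj z))) (hm (SingleObj.star G))

include hX in
lemma pts_reflectsIso (hwc : X.IsWellConnected) : (ptsFunctor ξ).ReflectsIsomorphisms where
  reflects {A B} f _ := by
    have hb : Function.Bijective ((ptsFunctor ξ).map f) :=
      ConcreteCategory.bijective_of_isIso ((ptsFunctor ξ).map f)
    have := isIso_of_bijective_pts hX hwc ξ f.unop hb
    exact (isIso_unop_iff f).mp this

include hX in
lemma preGalois (hepi : ∀ (A B : FEt X) (f : A ⟶ B), Epi f → ∀ p : X.pt,
    Function.Surjective (f.hom.app p)) : PreGaloisCategory (FEt X)ᵒᵖ := by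
  have : HasInitial (FEt X) := IsInitial.hasInitial strIsInitial
  have : HasPushouts (FEt X) := hasPushouts hX
  have : HasTerminal (FEt X) := IsTerminal.hasTerminal zeroIsTerminal
  have : HasBinaryProducts (FEt X) := hasBinaryProducts
  have : HasFiniteProducts (FEt X) := hasFiniteProducts_of_has_binary_and_terminal
  refine
    { hasTerminal := IsTerminal.hasTerminal (terminalOpOfInitial strIsInitial)
      hasPullbacks := inferInstance
      hasFiniteCoproducts := inferInstance
      hasQuotientsByFiniteGroups := fun G _ _ => hasColimitsOfShape_singleObj hX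
      monoInducesIsoOnDirectSummand := fun {A B} i _ => ?_ }
  have hs := hepi _ _ i.unop inferInstance
  refine ⟨op (complObj hX i.unop hs), (complπ hX i.unop hs).op, ⟨?_⟩⟩
  let hl := splitIsLimit hX i.unop hs
  exact BinaryCofan.isColimitMk (fun s => (hl.lift (BinaryFan.mk s.inl.unop s.inr.unop)).op)
    (fun s => Quiver.Hom.unop_inj (hl.fac (BinaryFan.mk s.inl.unop s.inr.unop) ⟨WalkingPair.left⟩))
    (fun s => Quiver.Hom.unop_inj (hl.fac (BinaryFan.mk s.inl.unop s.inr.unop) ⟨WalkingPair.right⟩))
    (fun s m h1 h2 => Quiver.Hom.unop_inj (hl.uniq (BinaryFan.mk s.inl.unop s.inr.unop) m.unop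
      (fun j => by
        rcases j with ⟨⟨⟩⟩
        · exact congrArg Quiver.Hom.unop h1
        · exact congrArg Quiver.Hom.unop h2)))

lemma fib_preservesFiniteCoproducts (hX : X.IsSchematic) :
    PreservesFiniteCoproducts ξ.fibFunctor := by
  have := pts_preservesFiniteCoproducts ξ hX
  exact ⟨fun n => preservesColimitsOfShape_of_natIso (ptsIso ξ)⟩

lemma fib_preservesTerminal :
    PreservesLimitsOfShape (Discrete PEmpty.{1}) ξ.fibFunctor := by
  have := pts_preservesTerminal ξ
  exact preservesLimitsOfShape_of_natIso (ptsIso ξ)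

lemma fib_preservesPullbacks (hX : X.IsSchematic) :
    PreservesLimitsOfShape WalkingCospan ξ.fibFunctor := by
  have := pts_preservesPullbacks ξ hX
  exact preservesLimitsOfShape_of_natIso (ptsIso ξ)

lemma fib_preservesEpis (hX : X.IsSchematic) : ξ.fibFunctor.PreservesEpimorphisms := by
  have := pts_preservesEpis ξ hX
  exact Functor.PreservesEpimorphisms.of_iso (ptsIso ξ)

lemma fib_reflectsIso (hX : X.IsSchematic) (hwc : X.IsWellConnected) :
    ξ.fibFunctor.ReflectsIsomorphisms := by
  have := pts_reflectsIso ξ hX hwc
  exact reflectsIsomorphisms_of_iso (ptsIso ξ)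

end Groth.Agent.SchFinLib
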