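import Groth.Agent.SchFinLib.BC
import Groth.Agent.Unram.Descent
import Groth.Prelude.Def_SchFin2
import Mathlib

/-!
# Algebras and modules on affine up-closed subsets of finite ringed posets
-/

set_option autoImplicit false
set_option backward.isDefEq.respectTransparency false
set_option backward.isDefEq.respectTransparency.types false
set_option synthInstance.maxHeartbeats 400000
set_option maxHeartbeats 800000

open TensorProduct CategoryTheory CategoryTheory.Limits AlgebraicGeometry

namespace Groth.Agent.SchFinLib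

universe u

open SchFin

variable {X : RSpace.{u}} (A : Alg X) (U : Set X.pt)

/-- Evaluation algebra. -/
@[reducible] def algR (q : U) : Algebra (X.sectRing U) (X.ring q.1) := (X.evalRing U q).toAlgebra

/-- Section algebra. -/
@[reducible] def algB : Algebra (X.sectRing U) (A.total.sectRing U) := (A.sectMap U).toAlgebra

attribute [local instance] algR algB

/-- Evaluation of algebra sections. -/
def evalB (q : U) : A.total.sectRing U →+* A.carrier q.1 := A.total.evalRing U q

lemma evalB_algebraMap (q : U) (r : X.sectRing U) :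
    evalB A U q (algebraMap (X.sectRing U) (A.total.sectRing U) r) =
      algebraMap (X.ring q.1) (A.carrier q.1) (algebraMap (X.sectRing U) (X.ring q.1) r) := rfl

lemma isQcoh_restrict {M : OMod X} (hM : M.IsQcoh) : (M.restrict U).IsQcoh :=
  fun p q h => hM p.1 q.1 h

omit A U in
/-- The universal property hidden in the counit being an isomorphism. -/
lemma counit_universal {Y : RSpace.{u}} (M : OMod Y) (y : Y.pt)
    (h : IsBCAlong (Y.evalRing Set.univ ⟨y, trivial⟩) (M.evalMod Set.univ ⟨y, trivial⟩))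
    (T : Type u) [AddCommGroup T] [Module (Y.ring y) T] (g : M.sect Set.univ →+ T)
    (hg : ∀ r n, g (r • n) = Y.evalRing Set.univ ⟨y, trivial⟩ r • g n) :
    (∃ ψ : M.carrier y →ₗ[Y.ring y] T, ∀ n : M.sect Set.univ, ψ (n.1 ⟨y, trivial⟩) = g n) ∧
      ∀ P : M.carrier y → Prop, P 0 → (∀ n : M.sect Set.univ, P (n.1 ⟨y, trivial⟩)) →
        (∀ (c : Y.ring y) x, P x → P (c • x)) → (∀ x z, P x → P z → P (x + z)) → ∀ a, P a := by
  letI : Algebra (Y.sectRing Set.univ) (Y.ring y) := (Y.evalRing Set.univ ⟨y, trivial⟩).toAlgebra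
  letI : Module (Y.sectRing Set.univ) (M.carrier y) := Module.compHom _ (Y.evalRing Set.univ ⟨y, trivial⟩)
  haveI : IsScalarTower (Y.sectRing Set.univ) (Y.ring y) (M.carrier y) := .of_algebraMap_smul fun _ _ => rfl
  letI : Module (Y.sectRing Set.univ) T := Module.compHom _ (Y.evalRing Set.univ ⟨y, trivial⟩)
  haveI : IsScalarTower (Y.sectRing Set.univ) (Y.ring y) T := .of_algebraMap_smul fun _ _ => rfl
  have h' : IsBaseChange (Y.ring y)
      ({ toFun := M.evalMod Set.univ ⟨y, trivial⟩, map_add' := map_add _,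
         map_smul' := (M.evalMod Set.univ ⟨y, trivial⟩).map_smulₛₗ } :
        M.sect Set.univ →ₗ[Y.sectRing Set.univ] M.carrier y) := h
  let gl : M.sect Set.univ →ₗ[Y.sectRing Set.univ] T :=
    { toFun := g, map_add' := map_add g, map_smul' := hg }
  exact ⟨⟨h'.lift gl, fun n => h'.lift_eq gl n⟩, fun P h0 hn hs hadd a => h'.inductionOn a P h0 hn hs hadd⟩

theorem isBC_eval (hA : A.IsQcoh) (hUa : (X.restrict U).IsAffine) (q : U) :
    IsBC (evalB A U q) (evalB_algebraMap A U q) := by
  let M : OMod (X.restrict U) := A.toMod.restrict U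
  let downB : M.sect Set.univ → A.total.sectRing U :=
    fun n => ⟨fun p => n.1 ⟨p, trivial⟩, fun p p' h => n.2 ⟨p, trivial⟩ ⟨p', trivial⟩ h⟩
  let g : M.sect Set.univ →+ X.ring q.1 ⊗[X.sectRing U] A.total.sectRing U :=
    AddMonoidHom.mk' (fun n => (1 : X.ring q.1) ⊗ₜ downB n) fun a b => by
      rw [← TensorProduct.tmul_add]; rfl
  obtain ⟨⟨ψ, hψ⟩, hind⟩ := counit_universal M q (hUa.2.2.1 M (isQcoh_restrict U hA) q) _ g (by
    intro r n
    let r' : X.sectRing U := ⟨fun p => r.1 ⟨p, trivial⟩, fun p p' h => r.2 ⟨p, trivial⟩ ⟨p', trivial⟩ h⟩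
    have hr : downB (r • n) = r' • downB n := Subtype.ext (funext fun p =>
      Algebra.smul_def (R := X.ring p.1) (A := A.carrier p.1) (r.1 ⟨p, trivial⟩) (n.1 ⟨p, trivial⟩))
    show (1 : X.ring q.1) ⊗ₜ downB (r • n) = algebraMap (X.sectRing U) (X.ring q.1) r' • ((1 : X.ring q.1) ⊗ₜ[X.sectRing U] downB n)
    rw [hr, TensorProduct.tmul_smul, algebraMap_smul])
  refine ⟨Function.LeftInverse.injective (g := fun a : A.carrier q.1 => ψ a) fun z => ?_, fun a => ?_⟩
  · induction z using TensorProduct.induction_on with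
    | zero => rw [map_zero]; exact map_zero ψ
    | add x y hx hy => rw [map_add]; exact (map_add ψ _ _).trans (congrArg₂ (· + ·) hx hy)
    | tmul s b =>
      rw [bcHom_tmul, ← Algebra.smul_def]
      letI : Module (X.ring q.1) (M.carrier q) := M.instMod q
      refine (ψ.map_smul' s (evalB A U q b)).trans ?_
      have hb : ψ (evalB A U q b) = (1 : X.ring q.1) ⊗ₜ[X.sectRing U] b :=
        hψ ⟨fun p => b.1 p.1, fun p p' h => b.2 p.1 p'.1 h⟩
      refine (congrArg (fun t : X.ring q.1 ⊗[X.sectRing U] A.total.sectRing U => s • t) hb).trans ?_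
      rw [TensorProduct.smul_tmul', smul_eq_mul, mul_one]
  · exact hind (fun x => ∃ z, bcHom (evalB A U q) (evalB_algebraMap A U q) z = (x : A.carrier q.1))
      ⟨0, map_zero _⟩ (fun n => ⟨1 ⊗ₜ downB n, (bcHom_one_tmul _ _ _).trans rfl⟩)
      (fun s x ⟨z, hz⟩ => ⟨(show X.ring q.1 from s) • z, (map_smul _ _ z).trans
        (congrArg (fun t : A.carrier q.1 => (show X.ring q.1 from s) • t) hz)⟩)
      (fun x y ⟨z, hz⟩ ⟨z', hz'⟩ => ⟨z + z', (map_add _ z z').trans (congrArg₂ (· + ·) hz hz')⟩) a

variable (hA : A.IsQcoh) (hUa : (X.restrict U).IsAffine)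

include hA hUa

theorem flat_at [Module.Flat (X.sectRing U) (A.total.sectRing U)] (q : U) :
    Module.Flat (X.ring q.1) (A.carrier q.1) :=
  Module.Flat.of_linearEquiv (bcEquiv (isBC_eval A U hA hUa q)).symm.toLinearEquiv

theorem faithfullyFlat_at [Module.FaithfullyFlat (X.sectRing U) (A.total.sectRing U)] (q : U) :
    Module.FaithfullyFlat (X.ring q.1) (A.carrier q.1) :=
  Module.FaithfullyFlat.of_linearEquiv _ _ (bcEquiv (isBC_eval A U hA hUa q)).symm.toLinearEquiv

theorem finite_at [Module.Finite (X.sectRing U) (A.total.sectRing U)] (q : U) :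
    Module.Finite (X.ring q.1) (A.carrier q.1) :=
  Module.Finite.equiv (bcEquiv (isBC_eval A U hA hUa q)).toLinearEquiv

theorem etale_at [Algebra.Etale (X.sectRing U) (A.total.sectRing U)] (q : U) :
    Algebra.Etale (X.ring q.1) (A.carrier q.1) :=
  Algebra.Etale.of_equiv (bcEquiv (isBC_eval A U hA hUa q))

omit hA hUa in
open Classical in
/-- Inclusion of a factor. -/
noncomputable def singleLin (q : U) : X.ring q.1 →ₗ[X.sectRing U] ((p : ↥U) → X.ring p.1) where
  toFun a := Pi.single q a
  map_add' a b := by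
    ext p
    by_cases hp : p = q
    · subst hp; simp
    · simp [hp]
  map_smul' r a := by
    ext p
    by_cases hp : p = q
    · subst hp; simp
    · simp [hp]

omit hA hUa in
theorem subsingleton_of_forall (hφ : Module.FaithfullyFlat (X.sectRing U) ((q : ↥U) → X.ring q.1))
    (N : Type u) [AddCommGroup N] [Module (X.sectRing U) N]
    (h : ∀ q : U, Subsingleton (X.ring q.1 ⊗[X.sectRing U] N)) : Subsingleton N := by
  classical
  cases nonempty_fintype U
  haveI : Subsingleton (((q : ↥U) → X.ring q.1) ⊗[X.sectRing U] N) := by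
    refine subsingleton_of_forall_eq 0 fun z => ?_
    induction z using TensorProduct.induction_on with
    | zero => rfl
    | add x y hx hy => rw [hx, hy, add_zero]
    | tmul o n =>
      rw [← Finset.univ_sum_single o, TensorProduct.sum_tmul]
      refine Finset.sum_eq_zero fun q _ => ?_
      haveI := h q
      have := congrArg (LinearMap.rTensor N (singleLin U q)) (Subsingleton.elim (o q ⊗ₜ[X.sectRing U] n) 0)
      simpa [singleLin] using this
  exact (Module.FaithfullyFlat.subsingleton_tensorProduct_iff_right (X.sectRing U) ((q : ↥U) → X.ring q.1)).1 ‹_›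

omit hA hUa in
theorem flat_ring (hφ : Module.FaithfullyFlat (X.sectRing U) ((q : ↥U) → X.ring q.1)) (q : U) :
    Module.Flat (X.sectRing U) (X.ring q.1) := by
  classical
  refine Module.Flat.of_retract (M := (q : ↥U) → X.ring q.1)
    (singleLin U q)
    { toFun := fun o => o q, map_add' := fun _ _ => rfl, map_smul' := fun _ _ => rfl } ?_
  ext a
  simp [singleLin]

variable (hφ : Module.FaithfullyFlat (X.sectRing U) ((q : ↥U) → X.ring q.1))

include hφ

theorem flat_sect (hψ : (A.total.sectRing U).subtype.FaithfullyFlat)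
    (hfl : ∀ q : U, Module.Flat (X.ring q.1) (A.carrier q.1)) :
    Module.Flat (X.sectRing U) (A.total.sectRing U) := by
  letI : ∀ q : U, Algebra (X.sectRing U) (A.carrier q.1) := fun q =>
    ((algebraMap (X.ring q.1) (A.carrier q.1)).comp (X.evalRing U q)).toAlgebra
  haveI : ∀ q : U, IsScalarTower (X.sectRing U) (X.ring q.1) (A.carrier q.1) := fun q =>
    .of_algebraMap_eq fun _ => rfl
  haveI : ∀ q : U, Module.Flat (X.sectRing U) (A.carrier q.1) := fun q =>
    haveI := flat_ring U hφ q
    haveI := hfl q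
    Module.Flat.trans (X.sectRing U) (X.ring q.1) _
  cases nonempty_fintype U
  let C := (q : ↥U) → A.carrier q.1
  haveI : Module.Flat (X.sectRing U) C :=
    Module.Flat.of_linearEquiv (DFinsupp.linearEquivFunOnFintype (R := X.sectRing U)).symm
  letI : Algebra (A.total.sectRing U) C := (A.total.sectRing U).subtype.toAlgebra
  haveI : Module.FaithfullyFlat (A.total.sectRing U) C := hψ
  haveI : IsScalarTower (X.sectRing U) (A.total.sectRing U) C := .of_algebraMap_eq fun _ => rfl
  exact Unram.flat_of_flat_faithfullyFlat (A.total.sectRing U) C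

theorem faithfullyFlat_sect (hψ : (A.total.sectRing U).subtype.FaithfullyFlat)
    (hfl : ∀ q : U, Module.FaithfullyFlat (X.ring q.1) (A.carrier q.1)) :
    Module.FaithfullyFlat (X.sectRing U) (A.total.sectRing U) := by
  haveI := flat_sect A U hA hUa hφ hψ fun q => haveI := hfl q; inferInstance
  refine Module.FaithfullyFlat.of_comap_surjective fun P => ?_
  obtain ⟨P₁, rfl⟩ := PrimeSpectrum.comap_surjective_of_faithfullyFlat (B := (q : ↥U) → X.ring q.1) P
  obtain ⟨q, P₂, rfl⟩ := PrimeSpectrum.exists_comap_evalRingHom_eq P₁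
  haveI := hfl q
  obtain ⟨P₃, rfl⟩ := PrimeSpectrum.comap_surjective_of_faithfullyFlat (B := A.carrier q.1) P₂
  exact ⟨PrimeSpectrum.comap (evalB A U q) P₃, rfl⟩

theorem finite_sect (hfin : ∀ q : U, Module.Finite (X.ring q.1) (A.carrier q.1)) :
    Module.Finite (X.sectRing U) (A.total.sectRing U) := by
  classical
  have key : ∀ (q : U) (a : A.carrier q.1), ∃ s : Finset (A.total.sectRing U),
      a ∈ Submodule.span (X.ring q.1) (evalB A U q '' (s : Set (A.total.sectRing U))) := by
    intro q a
    obtain ⟨z, rfl⟩ := (isBC_eval A U hA hUa q).2 a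
    induction z using TensorProduct.induction_on with
    | zero => exact ⟨∅, by rw [map_zero]; exact zero_mem _⟩
    | tmul s b =>
      refine ⟨{b}, ?_⟩
      rw [bcHom_tmul, ← Algebra.smul_def]
      exact Submodule.smul_mem _ _ (Submodule.subset_span ⟨b, by simp, rfl⟩)
    | add x y hx hy =>
      obtain ⟨s, hs⟩ := hx
      obtain ⟨t, ht⟩ := hy
      refine ⟨s ∪ t, ?_⟩
      rw [map_add]
      exact add_mem (Submodule.span_mono (Set.image_mono (by simp)) hs)
        (Submodule.span_mono (Set.image_mono (by simp)) ht)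
  choose S hS using key
  cases nonempty_fintype U
  have hg : ∀ q : U, ∃ t : Finset (A.carrier q.1), Submodule.span (X.ring q.1) (t : Set (A.carrier q.1)) = ⊤ :=
    fun q => Module.Finite.fg_top (self := hfin q)
  choose G hG using hg
  let s : Finset (A.total.sectRing U) := Finset.univ.biUnion fun q => (G q).biUnion (S q)
  let N := Submodule.span (X.sectRing U) (s : Set (A.total.sectRing U))
  refine ⟨⟨s, ?_⟩⟩
  rw [← Submodule.Quotient.subsingleton_iff]
  refine subsingleton_of_forall U hφ _ fun q => ?_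
  refine subsingleton_of_forall_eq 0 fun z => ?_
  obtain ⟨y, rfl⟩ := LinearMap.lTensor_surjective (X.ring q.1) N.mkQ_surjective z
  suffices h : bcHom (evalB A U q) (evalB_algebraMap A U q) y ∈
      Submodule.span (X.ring q.1) (evalB A U q '' (s : Set (A.total.sectRing U))) by
    obtain ⟨y', hy', e⟩ : ∃ y' ∈ LinearMap.ker (LinearMap.lTensor (X.ring q.1) N.mkQ),
        bcHom (evalB A U q) (evalB_algebraMap A U q) y' = bcHom (evalB A U q) (evalB_algebraMap A U q) y := by
      generalize bcHom (evalB A U q) (evalB_algebraMap A U q) y = c at h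
      induction h using Submodule.span_induction with
      | mem x hx =>
        obtain ⟨b, hb, rfl⟩ := hx
        refine ⟨1 ⊗ₜ b, ?_, bcHom_one_tmul _ _ _⟩
        rw [LinearMap.mem_ker, LinearMap.lTensor_tmul, Submodule.mkQ_apply,
          (Submodule.Quotient.mk_eq_zero N).2 (Submodule.subset_span hb), TensorProduct.tmul_zero]
      | zero => exact ⟨0, zero_mem _, map_zero _⟩
      | add x w _ _ hx hw =>
        obtain ⟨a, ha, rfl⟩ := hx
        obtain ⟨c, hc, rfl⟩ := hw
        exact ⟨a + c, add_mem ha hc, map_add _ _ _⟩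
      | smul r x _ hx =>
        obtain ⟨a, ha, rfl⟩ := hx
        refine ⟨r • a, ?_, map_smul _ _ _⟩
        rw [LinearMap.mem_ker] at ha ⊢
        exact (map_smul (N.mkQ.baseChange (X.ring q.1)) r a).trans ((congrArg (r • ·) ha).trans (smul_zero r))
    have := (isBC_eval A U hA hUa q).1 e
    subst this
    exact hy'
  have htop : Submodule.span (X.ring q.1) (evalB A U q '' (s : Set (A.total.sectRing U))) = ⊤ := by
    rw [eq_top_iff, ← hG q, Submodule.span_le]
    intro a ha
    refine Submodule.span_mono (Set.image_mono ?_) (hS q a)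
    intro b hb
    exact Finset.mem_biUnion.2 ⟨q, Finset.mem_univ _, Finset.mem_biUnion.2 ⟨a, ha, hb⟩⟩
  exact htop ▸ Submodule.mem_top

theorem etale_sect (het : ∀ q : U, Algebra.Etale (X.ring q.1) (A.carrier q.1)) :
    Algebra.Etale (X.sectRing U) (A.total.sectRing U) := by
  have key : ∀ q : U, Algebra.Etale (X.ring q.1) (X.ring q.1 ⊗[X.sectRing U] A.total.sectRing U) := fun q =>
    haveI := het q
    Algebra.Etale.of_equiv (bcEquiv (isBC_eval A U hA hUa q)).symm
  let φ : CommRingCat.of (X.sectRing U) ⟶ CommRingCat.of (A.total.sectRing U) :=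
    CommRingCat.ofHom (algebraMap _ _)
  let p : Spec (CommRingCat.of ((q : ↥U) → X.ring q.1)) ⟶ Spec (CommRingCat.of (X.sectRing U)) :=
    Spec.map (CommRingCat.ofHom (algebraMap _ _))
  haveI : Surjective p := ⟨PrimeSpectrum.comap_surjective_of_faithfullyFlat⟩
  haveI : Flat p := (HasRingHomProperty.Spec_iff (P := @Flat)).mpr (RingHom.flat_algebraMap_iff.mpr inferInstance)
  suffices h : Etale (pullback.snd (Spec.map φ) p) by
    have := MorphismProperty.of_isPullback_of_descendsAlong (P := @Etale)
      (Q := (@Surjective ⊓ @Flat ⊓ @QuasiCompact : MorphismProperty Scheme.{u}))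
      (IsPullback.of_hasPullback (Spec.map φ) p).flip ⟨⟨inferInstance, inferInstance⟩, inferInstance⟩ h
    exact RingHom.etale_algebraMap.mp ((HasRingHomProperty.Spec_iff (P := @Etale)).mp this)
  let 𝒰 := AlgebraicGeometry.sigmaOpenCover (fun q : U => Spec (CommRingCat.of (X.ring q.1)))
  let e := asIso (AlgebraicGeometry.sigmaSpec (fun q : U => CommRingCat.of (X.ring q.1)))
  let 𝒱 : Scheme.OpenCover (Spec (CommRingCat.of ((q : ↥U) → X.ring q.1))) := 𝒰.pushforwardIso e.hom
  rw [IsZariskiLocalAtTarget.iff_of_openCover (P := @Etale) 𝒱]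
  intro q
  have hmap : 𝒱.f q ≫ p = Spec.map (CommRingCat.ofHom (algebraMap (X.sectRing U) (X.ring q.1))) := by
    show (Sigma.ι (fun q : U => Spec (CommRingCat.of (X.ring q.1))) q ≫ e.hom) ≫ p = _
    rw [asIso_hom, ι_sigmaSpec, ← Spec.map_comp]
    rfl
  show Etale (pullback.snd (pullback.snd (Spec.map φ) p) (𝒱.f q))
  rw [← MorphismProperty.cancel_left_of_respectsIso @Etale (pullbackLeftPullbackSndIso (Spec.map φ) p (𝒱.f q)).inv,
    pullbackLeftPullbackSndIso_inv_snd_snd]
  have hpb : IsPullback (pullback.fst (Spec.map φ) (𝒱.f q ≫ p)) (pullback.snd (Spec.map φ) (𝒱.f q ≫ p))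
      (Spec.map φ) (Spec.map (CommRingCat.ofHom (algebraMap (X.sectRing U) (X.ring q.1)))) :=
    hmap ▸ IsPullback.of_hasPullback (Spec.map φ) (𝒱.f q ≫ p)
  rw [← hpb.isoPullback_hom_snd, MorphismProperty.cancel_left_of_respectsIso @Etale]
  rw [← MorphismProperty.cancel_left_of_respectsIso @Etale
      (pullbackSymmetry (Spec.map φ) (Spec.map (CommRingCat.ofHom (algebraMap (X.sectRing U) (X.ring q.1))))).inv,
    pullbackSymmetry_inv_comp_snd,
    ← MorphismProperty.cancel_left_of_respectsIso @Etale
      (pullbackSpecIso (X.sectRing U) (X.ring q.1) (A.total.sectRing U)).inv, pullbackSpecIso_inv_fst]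
  exact (HasRingHomProperty.Spec_iff (P := @Etale)).mpr (RingHom.etale_algebraMap.mpr (key q))

end Groth.Agent.SchFinLib
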