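import Groth.Agent.SchFinLib.AffineSect

/-!
# Modules over affine up-closed subsets
-/

set_option autoImplicit false
set_option backward.isDefEq.respectTransparency false
set_option backward.isDefEq.respectTransparency.types false
set_option synthInstance.maxHeartbeats 400000
set_option maxHeartbeats 800000

open TensorProduct

namespace Groth.Agent.SchFinLib

universe u

open SchFin

variable {X : RSpace.{u}} (U : Set X.pt)

attribute [local instance] algR

/-- Evaluation of module sections as a linear map. -/
def evalM (M : OMod X) (q : U) [Module (X.sectRing U) (M.carrier q.1)]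
    [IsScalarTower (X.sectRing U) (X.ring q.1) (M.carrier q.1)] : M.sect U →ₗ[X.sectRing U] M.carrier q.1 where
  toFun n := n.1 q
  map_add' _ _ := rfl
  map_smul' r n := (algebraMap_smul (X.ring q.1) r (n.1 q))

theorem bijective_evalM (M : OMod X) (hM : M.IsQcoh) (hUa : (X.restrict U).IsAffine) (q : U)
    [Module (X.sectRing U) (M.carrier q.1)] [IsScalarTower (X.sectRing U) (X.ring q.1) (M.carrier q.1)] :
    Function.Bijective ((evalM U M q).liftBaseChange (X.ring q.1)) := by
  let N : OMod (X.restrict U) := M.restrict U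
  let down : N.sect Set.univ → M.sect U :=
    fun n => ⟨fun p => n.1 ⟨p, trivial⟩, fun p p' h => n.2 ⟨p, trivial⟩ ⟨p', trivial⟩ h⟩
  let g : N.sect Set.univ →+ X.ring q.1 ⊗[X.sectRing U] M.sect U :=
    AddMonoidHom.mk' (fun n => (1 : X.ring q.1) ⊗ₜ down n) fun a b => by
      rw [← TensorProduct.tmul_add]; rfl
  obtain ⟨⟨ψ, hψ⟩, hind⟩ := counit_universal N q (hUa.2.2.1 N (isQcoh_restrict U hM) q) _ g (by
    intro r n
    let r' : X.sectRing U := ⟨fun p => r.1 ⟨p, trivial⟩, fun p p' h => r.2 ⟨p, trivial⟩ ⟨p', trivial⟩ h⟩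
    show (1 : X.ring q.1) ⊗ₜ down (r • n) = algebraMap (X.sectRing U) (X.ring q.1) r' • ((1 : X.ring q.1) ⊗ₜ[X.sectRing U] down n)
    rw [show down (r • n) = r' • down n from rfl, TensorProduct.tmul_smul, algebraMap_smul])
  refine ⟨Function.LeftInverse.injective (g := fun a : M.carrier q.1 => ψ a) fun z => ?_, fun a => ?_⟩
  · induction z using TensorProduct.induction_on with
    | zero => rw [map_zero]; exact map_zero ψ
    | add x y hx hy => rw [map_add]; exact (map_add ψ _ _).trans (congrArg₂ (· + ·) hx hy)
    | tmul s b =>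
      rw [LinearMap.liftBaseChange_tmul]
      refine (ψ.map_smul' s (b.1 q)).trans ?_
      have hb : ψ (b.1 q) = (1 : X.ring q.1) ⊗ₜ[X.sectRing U] b :=
        hψ ⟨fun p => b.1 p.1, fun p p' h => b.2 p.1 p'.1 h⟩
      refine (congrArg (fun t : X.ring q.1 ⊗[X.sectRing U] M.sect U => s • t) hb).trans ?_
      rw [TensorProduct.smul_tmul', smul_eq_mul, mul_one]
  · exact hind (fun x => ∃ z, (evalM U M q).liftBaseChange (X.ring q.1) z = (x : M.carrier q.1))
      ⟨0, map_zero _⟩ (fun n => ⟨1 ⊗ₜ down n, (LinearMap.liftBaseChange_tmul _ _ _ _).trans (one_smul _ _)⟩)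
      (fun s x ⟨z, hz⟩ => ⟨(show X.ring q.1 from s) • z, (map_smul _ _ z).trans
        (congrArg (fun t : M.carrier q.1 => (show X.ring q.1 from s) • t) hz)⟩)
      (fun x y ⟨z, hz⟩ ⟨z', hz'⟩ => ⟨z + z', (map_add _ z z').trans (congrArg₂ (· + ·) hz hz')⟩) a

lemma lTensor_exact_ker {M₀ N₀ : Type u} [AddCommGroup M₀] [AddCommGroup N₀] [Module (X.sectRing U) M₀]
    [Module (X.sectRing U) N₀] (Φ : M₀ →ₗ[X.sectRing U] N₀) (q : U)
    (z : X.ring q.1 ⊗[X.sectRing U] LinearMap.ker Φ) :
    Φ.baseChange (X.ring q.1) (LinearMap.lTensor (X.ring q.1) (LinearMap.ker Φ).subtype z) = 0 := by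
  induction z using TensorProduct.induction_on with
  | zero => simp
  | tmul s m => simp
  | add a b ha hb => simp only [map_add, ha, hb, add_zero]

theorem isBCAlong_resSect (x : X.pt) (hU : U ⊆ X.up x) (hUa : (X.restrict U).IsAffine)
    (hff : Module.FaithfullyFlat (X.sectRing U) ((q : ↥U) → X.ring q.1)) (M : OMod X) (hM : M.IsQcoh) :
    IsBCAlong (X.resSect x U hU) (M.resSect x U hU) := by
  letI : Algebra (X.ring x) (X.sectRing U) := (X.resSect x U hU).toAlgebra
  letI : Module (X.ring x) (M.sect U) := Module.compHom _ (X.resSect x U hU)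
  haveI : IsScalarTower (X.ring x) (X.sectRing U) (M.sect U) := .of_algebraMap_smul fun _ _ => rfl
  let f : M.carrier x →ₗ[X.ring x] M.sect U :=
    { toFun := M.resSect x U hU, map_add' := map_add _, map_smul' := (M.resSect x U hU).map_smulₛₗ }
  show IsBaseChange (X.sectRing U) f
  let Φ := f.liftBaseChange (X.sectRing U)
  suffices hΦ : Function.Bijective Φ by
    refine (iff_of_eq (congrArg Function.Bijective ?_)).mp hΦ
    funext z
    induction z using TensorProduct.induction_on with
    | zero => simp
    | tmul s m => simp [Φ]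
    | add a b ha hb => simp only [map_add, ha, hb]
  have key : ∀ q : U, Function.Bijective (Φ.baseChange (X.ring q.1)) := by
    intro q
    letI : Algebra (X.ring x) (X.ring q.1) := (X.res (hU q.2)).toAlgebra
    haveI : IsScalarTower (X.ring x) (X.sectRing U) (X.ring q.1) := .of_algebraMap_eq fun _ => rfl
    letI : Module (X.ring x) (M.carrier q.1) := Module.compHom _ (X.res (hU q.2))
    haveI : IsScalarTower (X.ring x) (X.ring q.1) (M.carrier q.1) := .of_algebraMap_smul fun _ _ => rfl
    letI : Module (X.sectRing U) (M.carrier q.1) := Module.compHom _ (X.evalRing U q)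
    haveI : IsScalarTower (X.sectRing U) (X.ring q.1) (M.carrier q.1) := .of_algebraMap_smul fun _ _ => rfl
    let rl : M.carrier x →ₗ[X.ring x] M.carrier q.1 :=
      { toFun := M.res (hU q.2), map_add' := map_add _, map_smul' := (M.res (hU q.2)).map_smulₛₗ }
    have h1 : IsBaseChange (X.ring q.1) rl := hM x q.1 (hU q.2)
    let c := TensorProduct.AlgebraTensorModule.cancelBaseChange (X.ring x) (X.sectRing U) (X.ring q.1)
      (X.ring q.1) (M.carrier x)
    have hcomp : ∀ z, (evalM U M q).liftBaseChange (X.ring q.1) (Φ.baseChange (X.ring q.1) z) = h1.equiv (c z) := by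
      intro z
      induction z using TensorProduct.induction_on with
      | zero => simp
      | add a b ha hb => simp only [map_add, ha, hb]
      | tmul s w =>
        induction w using TensorProduct.induction_on with
        | zero => simp
        | add a b ha hb => simp only [TensorProduct.tmul_add, map_add, ha, hb]
        | tmul r m =>
          rw [LinearMap.baseChange_tmul, LinearMap.liftBaseChange_tmul,
            TensorProduct.AlgebraTensorModule.cancelBaseChange_tmul, IsBaseChange.equiv_tmul,
            LinearMap.liftBaseChange_tmul, Algebra.smul_def, mul_smul, smul_comm]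
          rfl
    have hb : Function.Bijective
        ((evalM U M q).liftBaseChange (X.ring q.1) ∘ Φ.baseChange (X.ring q.1)) := by
      rw [show ((evalM U M q).liftBaseChange (X.ring q.1) ∘ Φ.baseChange (X.ring q.1)) = h1.equiv ∘ c from funext hcomp]
      exact h1.equiv.bijective.comp c.bijective
    exact ((bijective_evalM U M hM hUa q).of_comp_iff' _).1 hb
  refine ⟨?_, ?_⟩
  · rw [← LinearMap.ker_eq_bot, ← Submodule.subsingleton_iff_eq_bot]
    refine subsingleton_of_forall U hff _ fun q => ?_
    haveI := flat_ring U hff q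
    refine subsingleton_of_forall_eq 0 fun z => ?_
    refine Module.Flat.lTensor_preserves_injective_linearMap (M := X.ring q.1) (LinearMap.ker Φ).subtype
      Subtype.val_injective ?_
    rw [map_zero]
    refine (key q).1 ?_
    rw [map_zero]
    exact (lTensor_exact_ker U Φ q z)
  · rw [← LinearMap.range_eq_top, ← Submodule.Quotient.subsingleton_iff]
    refine subsingleton_of_forall U hff _ fun q => ?_
    refine subsingleton_of_forall_eq 0 fun z => ?_
    obtain ⟨y, rfl⟩ := LinearMap.lTensor_surjective (X.ring q.1) (LinearMap.range Φ).mkQ_surjective z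
    obtain ⟨w, rfl⟩ := (key q).2 y
    exact (lTensor_exact (X.ring q.1) (LinearMap.exact_map_mkQ_range Φ) (LinearMap.range Φ).mkQ_surjective).apply_apply_eq_zero w

end Groth.Agent.SchFinLib
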