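import Mathlib.RingTheory.IsTensorProduct
import Mathlib.RingTheory.TensorProduct.Pi
import Mathlib.RingTheory.Flat.Basic
import Mathlib.RingTheory.TensorProduct.Maps
import Mathlib.LinearAlgebra.TensorProduct.Prod

/-!
# Base change squares of algebras

`IsBC a ha`: for an `R`-algebra `A`, an `S`-algebra `B` and a ring map `a : A → B` over `R → S`,
the induced map `S ⊗[R] A → B` is bijective.
-/

set_option autoImplicit false

open TensorProduct

namespace Groth.Agent.SchFinLib

universe u

section

variable {R S A B : Type u} [CommRing R] [CommRing S] [CommRing A] [CommRing B]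
  [Algebra R S] [Algebra R A] [Algebra S B]

/-- the map `S ⊗[R] A → B` induced by `a : A → B` over `R → S` -/
noncomputable def bcHom (a : A →+* B)
    (ha : ∀ r, a (algebraMap R A r) = algebraMap S B (algebraMap R S r)) : S ⊗[R] A →ₐ[S] B :=
  letI : Algebra R B := ((algebraMap S B).comp (algebraMap R S)).toAlgebra
  haveI : IsScalarTower R S B := IsScalarTower.of_algebraMap_eq' rfl
  Algebra.TensorProduct.lift (Algebra.ofId S B) ⟨a, ha⟩ (fun _ _ => .all _ _)

lemma bcHom_tmul (a : A →+* B)
    (ha : ∀ r, a (algebraMap R A r) = algebraMap S B (algebraMap R S r)) (s : S) (x : A) :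
    bcHom a ha (s ⊗ₜ x) = algebraMap S B s * a x := by
  rfl

lemma bcHom_one_tmul (a : A →+* B)
    (ha : ∀ r, a (algebraMap R A r) = algebraMap S B (algebraMap R S r)) (x : A) :
    bcHom a ha (1 ⊗ₜ x) = a x := by
  rw [bcHom_tmul, map_one, one_mul]

/-- `a` exhibits `B` as the base change of `A` -/
def IsBC (a : A →+* B)
    (ha : ∀ r, a (algebraMap R A r) = algebraMap S B (algebraMap R S r)) : Prop :=
  Function.Bijective (bcHom a ha)

/-- the base change isomorphism -/
noncomputable def bcEquiv {a : A →+* B}
    {ha : ∀ r, a (algebraMap R A r) = algebraMap S B (algebraMap R S r)} (h : IsBC a ha) :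
    S ⊗[R] A ≃ₐ[S] B :=
  AlgEquiv.ofBijective (bcHom a ha) h

lemma bc_hom_ext {a : A →+* B}
    {ha : ∀ r, a (algebraMap R A r) = algebraMap S B (algebraMap R S r)} (h : IsBC a ha)
    {T : Type u} [CommRing T] [Algebra S T] (f g : B →ₐ[S] T) (e : ∀ x, f (a x) = g (a x)) :
    f = g := by
  have : f.comp (bcHom a ha) = g.comp (bcHom a ha) := by
    refine AlgHom.ext fun z => ?_
    induction z using TensorProduct.induction_on with
    | zero => simp
    | tmul s x =>
        simp only [AlgHom.comp_apply, bcHom_tmul, map_mul, AlgHom.commutes, e]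
    | add z w hz hw => simp only [map_add, hz, hw]
  refine AlgHom.ext fun b => ?_
  obtain ⟨z, rfl⟩ := h.2 b
  exact AlgHom.congr_fun this z

lemma bc_exists_lift {a : A →+* B}
    {ha : ∀ r, a (algebraMap R A r) = algebraMap S B (algebraMap R S r)} (h : IsBC a ha)
    {T : Type u} [CommRing T] [Algebra S T] (φ : A →+* T)
    (hφ : ∀ r, φ (algebraMap R A r) = algebraMap S T (algebraMap R S r)) :
    ∃ ψ : B →ₐ[S] T, ∀ x, ψ (a x) = φ x := by
  refine ⟨(bcHom φ hφ).comp (bcEquiv h).symm.toAlgHom, fun x => ?_⟩
  have : (bcEquiv h).symm (a x) = 1 ⊗ₜ x := by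
    apply (bcEquiv h).injective
    rw [AlgEquiv.apply_symm_apply]
    exact (bcHom_one_tmul a ha x).symm
  change bcHom φ hφ ((bcEquiv h).symm (a x)) = φ x
  rw [this, bcHom_one_tmul]

lemma isBC_of_universal (a : A →+* B)
    (ha : ∀ r, a (algebraMap R A r) = algebraMap S B (algebraMap R S r))
    (hex : ∃ ψ : B →ₐ[S] S ⊗[R] A, ∀ x, ψ (a x) = 1 ⊗ₜ x)
    (huniq : ∀ f g : B →ₐ[S] B, (∀ x, f (a x) = g (a x)) → f = g) : IsBC a ha := by
  obtain ⟨ψ, hψ⟩ := hex
  have h1 : ψ.comp (bcHom a ha) = AlgHom.id S _ := by
    refine AlgHom.ext fun z => ?_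
    induction z using TensorProduct.induction_on with
    | zero => simp
    | tmul s x =>
        simp only [AlgHom.comp_apply, bcHom_tmul, map_mul, AlgHom.commutes, hψ,
          Algebra.TensorProduct.algebraMap_apply, Algebra.TensorProduct.tmul_mul_tmul, mul_one,
          one_mul, AlgHom.coe_id, id_eq, Algebra.algebraMap_self, RingHom.id_apply]
    | add z w hz hw => simp only [map_add, hz, hw]
  have h2 : (bcHom a ha).comp ψ = AlgHom.id S _ := by
    refine huniq _ _ fun x => ?_
    simp only [AlgHom.comp_apply, hψ, bcHom_one_tmul, AlgHom.coe_id, id_eq]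
  exact Function.bijective_iff_has_inverse.mpr
    ⟨ψ, fun z => AlgHom.congr_fun h1 z, fun z => AlgHom.congr_fun h2 z⟩

/-- The linear-map form of bijectivity. -/
lemma isBC_iff_isBaseChange (a : A →+* B)
    (ha : ∀ r, a (algebraMap R A r) = algebraMap S B (algebraMap R S r))
    [Module R B] [IsScalarTower R S B] (l : A →ₗ[R] B) (hl : ∀ x, l x = a x) :
    IsBC a ha ↔ IsBaseChange S l := by
  unfold IsBC IsBaseChange IsTensorProduct
  refine iff_of_eq (congrArg Function.Bijective ?_)
  funext z
  induction z using TensorProduct.induction_on with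
  | zero => simp
  | tmul s x =>
      rw [bcHom_tmul]
      simp [hl, Algebra.smul_def]
  | add z w hz hw => simp only [map_add, hz, hw]

end

section Nat

variable {R S A B A' B' : Type u} [CommRing R] [CommRing S] [CommRing A] [CommRing B]
  [CommRing A'] [CommRing B'] [Algebra R S] [Algebra R A] [Algebra R B] [Algebra S A']
  [Algebra S B']

lemma bcHom_natural (a : A →+* A')
    (ha : ∀ r, a (algebraMap R A r) = algebraMap S A' (algebraMap R S r))
    (b : B →+* B') (hb : ∀ r, b (algebraMap R B r) = algebraMap S B' (algebraMap R S r))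
    (f : A →ₐ[R] B) (f' : A' →ₐ[S] B') (hf : ∀ x, f' (a x) = b (f x)) (z : S ⊗[R] A) :
    f' (bcHom a ha z) = bcHom b hb (Algebra.TensorProduct.map (AlgHom.id S S) f z) := by
  induction z using TensorProduct.induction_on with
  | zero => simp
  | tmul s x =>
      simp only [bcHom_tmul, map_mul, AlgHom.commutes, hf, Algebra.TensorProduct.map_tmul,
        AlgHom.coe_id, id_eq]
  | add z w hz hw => simp only [map_add, hz, hw]

/-- a surjection `A → B` whose target embeds -/
lemma isBC_image [Module.Flat R S] {C C' : Type u} [CommRing C] [CommRing C'] [Algebra R C]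
    [Algebra S C'] (a : A →+* A')
    (ha : ∀ r, a (algebraMap R A r) = algebraMap S A' (algebraMap R S r))
    (b : B →+* B') (hb : ∀ r, b (algebraMap R B r) = algebraMap S B' (algebraMap R S r))
    (c : C →+* C') (hc : ∀ r, c (algebraMap R C r) = algebraMap S C' (algebraMap R S r))
    (f : A →ₐ[R] B) (f' : A' →ₐ[S] B') (hf : ∀ x, f' (a x) = b (f x))
    (g : B →ₐ[R] C) (g' : B' →ₐ[S] C') (hg : ∀ x, g' (b x) = c (g x))
    (hfs : Function.Surjective f') (hgi : Function.Injective g)
    (hA : Function.Surjective (bcHom a ha)) (hC : Function.Injective (bcHom c hc)) :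
    IsBC b hb := by
  constructor
  · refine Function.Injective.of_comp (f := g') ?_
    have : g' ∘ bcHom b hb = bcHom c hc ∘ Algebra.TensorProduct.map (AlgHom.id S S) g := by
      funext z
      exact bcHom_natural b hb c hc g g' hg z
    rw [this]
    exact hC.comp (Module.Flat.lTensor_preserves_injective_linearMap (M := S) g.toLinearMap hgi)
  · intro y
    obtain ⟨x, rfl⟩ := hfs y
    obtain ⟨z, rfl⟩ := hA x
    exact ⟨_, (bcHom_natural a ha b hb f f' hf z).symm⟩

/-- base change of equalizers -/
lemma isBC_equalizer [Module.Flat R S] {ι : Type u} [Finite ι] {E E' : Type u} [CommRing E]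
    [CommRing E'] [Algebra R E] [Algebra S E']
    (e : E →+* E') (he : ∀ r, e (algebraMap R E r) = algebraMap S E' (algebraMap R S r))
    (a : A →+* A') (ha : ∀ r, a (algebraMap R A r) = algebraMap S A' (algebraMap R S r))
    (b : B →+* B') (hb : ∀ r, b (algebraMap R B r) = algebraMap S B' (algebraMap R S r))
    (i : E →ₐ[R] A) (i' : E' →ₐ[S] A') (hi : ∀ x, i' (e x) = a (i x))
    (hii : Function.Injective i) (hii' : Function.Injective i')
    (f g : ι → (A →ₐ[R] B)) (f' g' : ι → (A' →ₐ[S] B'))
    (hf : ∀ k x, f' k (a x) = b (f k x)) (hg : ∀ k x, g' k (a x) = b (g k x))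
    (hr : ∀ x, (∃ y, i y = x) ↔ ∀ k, f k x = g k x)
    (hr' : ∀ x, (∃ y, i' y = x) → ∀ k, f' k x = g' k x)
    (hA : IsBC a ha) (hB : Function.Injective (bcHom b hb)) : IsBC e he := by
  constructor
  · refine Function.Injective.of_comp (f := i') ?_
    have : i' ∘ bcHom e he = bcHom a ha ∘ Algebra.TensorProduct.map (AlgHom.id S S) i := by
      funext z
      exact bcHom_natural e he a ha i i' hi z
    rw [this]
    exact hA.1.comp (Module.Flat.lTensor_preserves_injective_linearMap (M := S) i.toLinearMap hii)
  · intro y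
    obtain ⟨z, hz⟩ := hA.2 (i' y)
    classical
    have := Fintype.ofFinite ι
    let D : A →ₗ[R] (ι → B) := LinearMap.pi fun k => (f k).toLinearMap - (g k).toLinearMap
    have hex : Function.Exact i.toLinearMap D := by
      intro x
      rw [Set.mem_range]
      constructor
      · intro hx
        refine (hr x).mpr fun k => ?_
        exact sub_eq_zero.mp (congrFun hx k)
      · intro hx
        funext k
        exact sub_eq_zero.mpr ((hr x).mp hx k)
    have hk : ∀ k, ((f k).toLinearMap - (g k).toLinearMap).lTensor S z = 0 := by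
      intro k
      rw [LinearMap.lTensor_sub, LinearMap.sub_apply, sub_eq_zero]
      have h1 : f' k (i' y) = g' k (i' y) := hr' _ ⟨y, rfl⟩ k
      rw [← hz, bcHom_natural a ha b hb _ _ (hf k), bcHom_natural a ha b hb _ _ (hg k)] at h1
      exact hB h1
    have hD : D.lTensor S z = 0 := by
      apply (TensorProduct.piRight R R S (fun _ : ι => B)).injective
      rw [map_zero]
      funext k
      have : (LinearMap.proj k).comp
          ((TensorProduct.piRight R R S (fun _ : ι => B)).toLinearMap.comp (D.lTensor S)) =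
          ((f k).toLinearMap - (g k).toLinearMap).lTensor S := by
        ext s x
        simp [D, TensorProduct.tmul_sub]
      exact (LinearMap.congr_fun this z).trans (hk k)
    obtain ⟨w, hw⟩ := (Module.Flat.lTensor_exact S hex z).mp hD
    refine ⟨w, hii' ?_⟩
    rw [bcHom_natural e he a ha i i' hi, ← hz]
    exact congrArg _ hw

/-- base change of binary products -/
lemma isBC_prod (a : A →+* A')
    (ha : ∀ r, a (algebraMap R A r) = algebraMap S A' (algebraMap R S r))
    (b : B →+* B') (hb : ∀ r, b (algebraMap R B r) = algebraMap S B' (algebraMap R S r))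
    (hab : ∀ r, (a.prodMap b) (algebraMap R (A × B) r) =
      algebraMap S (A' × B') (algebraMap R S r)) :
    IsBC (a.prodMap b) hab ↔ IsBC a ha ∧ IsBC b hb := by
  have h : ⇑(bcHom (a.prodMap b) hab) =
      Prod.map (bcHom a ha) (bcHom b hb) ∘ Algebra.TensorProduct.prodRight R S S A B := by
    funext z
    induction z using TensorProduct.induction_on with
    | zero => exact Prod.ext (by simp [Prod.map]) (by simp [Prod.map])
    | tmul s x =>
        simp only [Function.comp_apply, bcHom_tmul, Algebra.TensorProduct.prodRight_tmul, Prod.map]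
        exact Prod.ext rfl rfl
    | add z w hz hw =>
        simp only [map_add, hz, hw, Function.comp_apply, Prod.map, Prod.mk_add_mk, Prod.fst_add,
          Prod.snd_add]
  unfold IsBC
  rw [h, Function.Bijective.of_comp_iff _ (AlgEquiv.bijective _), Prod.map_bijective]

end Nat

end Groth.Agent.SchFinLib
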