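import Groth.Agent.SchFinLib.FEtAlg
import Mathlib.RingTheory.Kaehler.Basic

/-!
# Pushouts of algebras as quotients of tensor products
-/

set_option autoImplicit false

open TensorProduct

namespace Groth.Agent.SchFinLib

universe u

variable {R A B C : Type u} [CommRing R] [CommRing A] [CommRing B] [CommRing C]
  [Algebra R A] [Algebra R B] [Algebra R C]

/-- the ideal identifying the two images of `C` -/
def pushIdeal (f : C →ₐ[R] A) (g : C →ₐ[R] B) : Ideal (A ⊗[R] B) :=
  Ideal.span (Set.range fun c => f c ⊗ₜ[R] (1 : B) - (1 : A) ⊗ₜ[R] g c)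

/-- pushout of `f` and `g` -/
abbrev Push (f : C →ₐ[R] A) (g : C →ₐ[R] B) : Type u := (A ⊗[R] B) ⧸ pushIdeal f g

namespace Push

variable (f : C →ₐ[R] A) (g : C →ₐ[R] B)

/-- left leg -/
noncomputable def inl : A →ₐ[R] Push f g :=
  (Ideal.Quotient.mkₐ R (pushIdeal f g)).comp Algebra.TensorProduct.includeLeft

/-- right leg -/
noncomputable def inr : B →ₐ[R] Push f g :=
  (Ideal.Quotient.mkₐ R (pushIdeal f g)).comp Algebra.TensorProduct.includeRight

lemma condition : (inl f g).comp f = (inr f g).comp g := by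
  refine AlgHom.ext fun c => ?_
  show Ideal.Quotient.mk _ (f c ⊗ₜ[R] (1 : B)) = Ideal.Quotient.mk _ ((1 : A) ⊗ₜ[R] g c)
  rw [Ideal.Quotient.eq]
  exact Ideal.subset_span ⟨c, rfl⟩

variable {f g}

lemma hom_ext {T : Type u} [CommRing T] (φ ψ : Push f g →+* T)
    (h1 : ∀ a, φ (inl f g a) = ψ (inl f g a)) (h2 : ∀ b, φ (inr f g b) = ψ (inr f g b)) :
    φ = ψ := by
  refine Ideal.Quotient.ringHom_ext (Algebra.TensorProduct.ringHom_ext ?_ ?_)
  · exact RingHom.ext h1
  · exact RingHom.ext h2

variable (f g)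

/-- universal property -/
noncomputable def desc {T : Type u} [CommRing T] [Algebra R T] (φ : A →ₐ[R] T) (ψ : B →ₐ[R] T)
    (h : φ.comp f = ψ.comp g) : Push f g →ₐ[R] T :=
  Ideal.Quotient.liftₐ _ (Algebra.TensorProduct.lift φ ψ fun _ _ => .all _ _) (by
    have : pushIdeal f g ≤ RingHom.ker (Algebra.TensorProduct.lift φ ψ fun _ _ => .all _ _) := by
      refine Ideal.span_le.mpr ?_
      rintro _ ⟨c, rfl⟩
      simp only [SetLike.mem_coe, RingHom.mem_ker, map_sub, Algebra.TensorProduct.lift_tmul,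
        map_one, mul_one, one_mul]
      exact sub_eq_zero.mpr (AlgHom.congr_fun h c)
    exact fun a ha => this ha)

lemma desc_inl {T : Type u} [CommRing T] [Algebra R T] (φ : A →ₐ[R] T) (ψ : B →ₐ[R] T)
    (h : φ.comp f = ψ.comp g) (a : A) : desc f g φ ψ h (inl f g a) = φ a := by
  show Algebra.TensorProduct.lift φ ψ (fun _ _ => .all _ _) (a ⊗ₜ 1) = φ a
  simp

lemma desc_inr {T : Type u} [CommRing T] [Algebra R T] (φ : A →ₐ[R] T) (ψ : B →ₐ[R] T)
    (h : φ.comp f = ψ.comp g) (b : B) : desc f g φ ψ h (inr f g b) = ψ b := by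
  show Algebra.TensorProduct.lift φ ψ (fun _ _ => .all _ _) (1 ⊗ₜ b) = ψ b
  simp

variable [IsNoetherianRing R] [Module.Finite R A] [Algebra.Etale R A] [Module.Finite R B]
  [Algebra.Etale R B] [Module.Finite R C] [Algebra.Etale R C]

lemma finite : Module.Finite R (Push f g) :=
  Module.Finite.of_surjective (Ideal.Quotient.mkₐ R (pushIdeal f g)).toLinearMap
    (Ideal.Quotient.mkₐ_surjective R _)

lemma etale_tensor : Algebra.Etale R (A ⊗[R] B) :=
  Algebra.Etale.comp R A (A ⊗[R] B)

lemma etale : Algebra.Etale R (Push f g) := by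
  have := etale_tensor (R := R) (A := A) (B := B)
  have := etale_tensor (R := R) (A := C) (B := C)
  obtain ⟨e, he, hk⟩ := exists_idem_ker (Algebra.TensorProduct.lmul' R (S := C))
  have heq : pushIdeal f g = Ideal.span {Algebra.TensorProduct.map f g e} := by
    have h1 : KaehlerDifferential.ideal R C = Ideal.span {e} := hk
    have h2 : (Ideal.span {e}).map (Algebra.TensorProduct.map f g) =
        Ideal.span {Algebra.TensorProduct.map f g e} := by
      rw [Ideal.map_span, Set.image_singleton]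
    rw [← h2, ← h1, ← KaehlerDifferential.span_range_eq_ideal, Ideal.map_span]
    refine le_antisymm (Ideal.span_le.mpr ?_) (Ideal.span_le.mpr ?_)
    · rintro _ ⟨c, rfl⟩
      refine (Submodule.neg_mem_iff _).mp ?_
      refine Ideal.subset_span ⟨_, ⟨c, rfl⟩, ?_⟩
      simp
    · rintro _ ⟨_, ⟨c, rfl⟩, rfl⟩
      refine (Submodule.neg_mem_iff _).mp ?_
      refine Ideal.subset_span ⟨c, ?_⟩
      simp
  have := etale_quotient_of_idem (R := R) (he.map (Algebra.TensorProduct.map f g))
  exact Algebra.Etale.of_equiv (Ideal.quotientEquivAlgOfEq R heq.symm)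

end Push

end Groth.Agent.SchFinLib
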