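import Groth.Agent.SchFinLib.BC
import Groth.Agent.SchFinLib.Push

/-!
# Base change of pushouts and transport along isomorphisms
-/

set_option autoImplicit false

open TensorProduct

namespace Groth.Agent.SchFinLib

universe u

variable {R S A B C A' B' C' : Type u} [CommRing R] [CommRing S] [CommRing A] [CommRing B]
  [CommRing C] [CommRing A'] [CommRing B'] [CommRing C'] [Algebra R S] [Algebra R A] [Algebra R B]
  [Algebra R C] [Algebra S A'] [Algebra S B'] [Algebra S C']

lemma isBC_congr (a : A →+* A')
    (ha : ∀ r, a (algebraMap R A r) = algebraMap S A' (algebraMap R S r))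
    (b : B →+* B') (hb : ∀ r, b (algebraMap R B r) = algebraMap S B' (algebraMap R S r))
    (e : A ≃ₐ[R] B) (e' : A' ≃ₐ[S] B') (he : ∀ x, e' (a x) = b (e x)) :
    IsBC a ha ↔ IsBC b hb := by
  have h : ⇑e' ∘ ⇑(bcHom a ha) =
      ⇑(bcHom b hb) ∘ ⇑(Algebra.TensorProduct.congr (AlgEquiv.refl : S ≃ₐ[S] S) e) := by
    funext z
    exact bcHom_natural a ha b hb e.toAlgHom e'.toAlgHom he z
  unfold IsBC
  rw [← Function.Bijective.of_comp_iff' e'.bijective, h, Function.Bijective.of_comp_iff _
    (AlgEquiv.bijective _)]

variable (a : A →+* A') (ha : ∀ r, a (algebraMap R A r) = algebraMap S A' (algebraMap R S r))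
  (b : B →+* B') (hb : ∀ r, b (algebraMap R B r) = algebraMap S B' (algebraMap R S r))
  (c : C →+* C') (hc : ∀ r, c (algebraMap R C r) = algebraMap S C' (algebraMap R S r))
  (f : C →ₐ[R] A) (g : C →ₐ[R] B) (f' : C' →ₐ[S] A') (g' : C' →ₐ[S] B')
  (hf : ∀ x, f' (c x) = a (f x)) (hg : ∀ x, g' (c x) = b (g x))

/-- the map of pushouts -/
noncomputable def Push.map (hf : ∀ x, f' (c x) = a (f x)) (hg : ∀ x, g' (c x) = b (g x)) :
    Push f g →+* Push f' g' :=
  letI : Algebra R A' := ((algebraMap S A').comp (algebraMap R S)).toAlgebra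
  letI : Algebra R (Push f' g') := ((algebraMap S (Push f' g')).comp (algebraMap R S)).toAlgebra
  (Push.desc f g
    (T := Push f' g')
    { toRingHom := (Push.inl f' g').toRingHom.comp a
      commutes' := fun r => by
        show Push.inl f' g' (a (algebraMap R A r)) = _
        rw [ha, AlgHom.commutes]
        rfl }
    { toRingHom := (Push.inr f' g').toRingHom.comp b
      commutes' := fun r => by
        show Push.inr f' g' (b (algebraMap R B r)) = _
        rw [hb, AlgHom.commutes]
        rfl }
    (AlgHom.ext fun x => by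
      show Push.inl f' g' (a (f x)) = Push.inr f' g' (b (g x))
      rw [← hf, ← hg]
      exact AlgHom.congr_fun (Push.condition f' g') (c x))).toRingHom

lemma Push.map_inl (x : A) :
    Push.map a ha b hb c f g f' g' hf hg (Push.inl f g x) = Push.inl f' g' (a x) := by
  letI : Algebra R (Push f' g') := ((algebraMap S (Push f' g')).comp (algebraMap R S)).toAlgebra
  exact Push.desc_inl f g _ _ _ x

lemma Push.map_inr (x : B) :
    Push.map a ha b hb c f g f' g' hf hg (Push.inr f g x) = Push.inr f' g' (b x) := by
  letI : Algebra R (Push f' g') := ((algebraMap S (Push f' g')).comp (algebraMap R S)).toAlgebra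
  exact Push.desc_inr f g _ _ _ x

lemma Push.map_algebraMap (r : R) :
    Push.map a ha b hb c f g f' g' hf hg (algebraMap R (Push f g) r) =
      algebraMap S (Push f' g') (algebraMap R S r) := by
  rw [← AlgHom.commutes (Push.inl f g), Push.map_inl, ha, AlgHom.commutes]

include hc in
lemma Push.exists_desc (hA : IsBC a ha) (hB : IsBC b hb) (hC : IsBC c hc) {T : Type u} [CommRing T]
    [Algebra S T] (ι : Push f g →+* T)
    (hι : ∀ r, ι (algebraMap R (Push f g) r) = algebraMap S T (algebraMap R S r)) :
    ∃ χ : Push f' g' →ₐ[S] T, ∀ z, χ (Push.map a ha b hb c f g f' g' hf hg z) = ι z := by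
  obtain ⟨φ, hφ⟩ := bc_exists_lift hA (ι.comp (Push.inl f g).toRingHom) (fun r => by
    show ι (Push.inl f g (algebraMap R A r)) = _
    rw [AlgHom.commutes, hι])
  obtain ⟨ψ, hψ⟩ := bc_exists_lift hB (ι.comp (Push.inr f g).toRingHom) (fun r => by
    show ι (Push.inr f g (algebraMap R B r)) = _
    rw [AlgHom.commutes, hι])
  have hco : φ.comp f' = ψ.comp g' := by
    refine bc_hom_ext hC _ _ fun x => ?_
    simp only [AlgHom.comp_apply, hf, hg, hφ, hψ]
    exact congrArg ι (AlgHom.congr_fun (Push.condition f g) x)
  refine ⟨Push.desc f' g' φ ψ hco, fun z => ?_⟩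
  have key : (Push.desc f' g' φ ψ hco).toRingHom.comp
      (Push.map a ha b hb c f g f' g' hf hg) = ι := by
    refine Push.hom_ext _ _ (fun x => ?_) (fun x => ?_)
    · show Push.desc f' g' φ ψ hco (Push.map a ha b hb c f g f' g' hf hg (Push.inl f g x)) = _
      rw [Push.map_inl, Push.desc_inl, hφ]
      rfl
    · show Push.desc f' g' φ ψ hco (Push.map a ha b hb c f g f' g' hf hg (Push.inr f g x)) = _
      rw [Push.map_inr, Push.desc_inr, hψ]
      rfl
  exact RingHom.congr_fun key z

include hc in
lemma Push.isBC (hA : IsBC a ha) (hB : IsBC b hb) (hC : IsBC c hc) :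
    IsBC (Push.map a ha b hb c f g f' g' hf hg)
      (Push.map_algebraMap a ha b hb c f g f' g' hf hg) := by
  refine isBC_of_universal _ _ ?_ ?_
  · exact Push.exists_desc a ha b hb c hc f g f' g' hf hg hA hB hC (T := S ⊗[R] Push f g)
      (Algebra.TensorProduct.includeRight (R := R) (A := S) (B := Push f g)).toRingHom
      (fun r => by
        show Algebra.TensorProduct.includeRight (algebraMap R (Push f g) r) = _
        rw [AlgHom.commutes, IsScalarTower.algebraMap_apply R S (S ⊗[R] Push f g)])
  · intro p q e
    have e1 : p.comp (Push.inl f' g') = q.comp (Push.inl f' g') :=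
      bc_hom_ext hA _ _ fun x => by
        simp only [AlgHom.comp_apply]
        rw [← Push.map_inl a ha b hb c f g f' g' hf hg]
        exact e _
    have e2 : p.comp (Push.inr f' g') = q.comp (Push.inr f' g') :=
      bc_hom_ext hB _ _ fun x => by
        simp only [AlgHom.comp_apply]
        rw [← Push.map_inr a ha b hb c f g f' g' hf hg]
        exact e _
    exact AlgHom.coe_ringHom_injective
      (Push.hom_ext _ _ (AlgHom.congr_fun e1) (AlgHom.congr_fun e2))

end Groth.Agent.SchFinLib
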