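import Groth.Prelude.Def_SchFin2
import Groth.Agent.SchFinLib.BCPush

/-!
# Étale covers of a finite ringed poset: basic constructions
-/

set_option autoImplicit false

open TensorProduct CategoryTheory

namespace Groth.Agent.SchFinLib

open SchFin

universe u

lemma isBC_self {R S : Type u} [CommRing R] [CommRing S] [Algebra R S]
    (hab : ∀ r, algebraMap R S (algebraMap R R r) = algebraMap S S (algebraMap R S r)) :
    IsBC (algebraMap R S) hab := by
  have : ⇑(bcHom (algebraMap R S) hab) = ⇑(Algebra.TensorProduct.rid R S S) := by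
    funext z
    induction z using TensorProduct.induction_on with
    | zero => simp
    | tmul s x =>
        rw [bcHom_tmul, Algebra.TensorProduct.rid_tmul, Algebra.smul_def, mul_comm]
        rfl
    | add z w hz hw => rw [map_add, map_add, hz, hw]
  unfold IsBC
  rw [this]
  exact AlgEquiv.bijective _

variable {X : RSpace.{u}}

/-- base change at `h` -/
def AlgBC (A : Alg X) {p q : X.pt} (h : p ≤ q) : Prop :=
  letI : Algebra (X.ring p) (X.ring q) := (X.res h).toAlgebra
  IsBC (A.res h) (A.res_algebraMap h)

lemma isQcoh_iff (A : Alg X) : A.IsQcoh ↔ ∀ p q : X.pt, ∀ h : p ≤ q, AlgBC A h := by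
  refine forall_congr' fun p => forall_congr' fun q => forall_congr' fun h => ?_
  letI : Algebra (X.ring p) (X.ring q) := (X.res h).toAlgebra
  letI : Module (X.ring p) (A.carrier q) := Module.compHom (A.carrier q) (X.res h)
  haveI : IsScalarTower (X.ring p) (X.ring q) (A.carrier q) :=
    IsScalarTower.of_algebraMap_smul fun _ _ => rfl
  exact (isBC_iff_isBaseChange (A.res h) (A.res_algebraMap h) _ (fun _ => rfl)).symm

lemma flat_res (hX : X.IsSchematic) {p q : X.pt} (h : p ≤ q) :
    letI : Algebra (X.ring p) (X.ring q) := (X.res h).toAlgebra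
    Module.Flat (X.ring p) (X.ring q) :=
  hX.1.2 p q h

lemma noeth (hX : X.IsSchematic) (p : X.pt) : IsNoetherianRing (X.ring p) := hX.1.1 p

lemma fet_bc (A : FEt X) {p q : X.pt} (h : p ≤ q) : AlgBC A.obj h :=
  (isQcoh_iff A.obj).mp A.property.1 p q h

instance fet_finite (A : FEt X) (p : X.pt) : Module.Finite (X.ring p) (A.obj.carrier p) :=
  (A.property.2 p).1

instance fet_etale (A : FEt X) (p : X.pt) : Algebra.Etale (X.ring p) (A.obj.carrier p) :=
  (A.property.2 p).2

lemma app_res {A B : FEt X} (f : A ⟶ B) {p q : X.pt} (h : p ≤ q) (a : A.obj.carrier p) :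
    B.obj.res h (f.hom.app p a) = f.hom.app q (A.obj.res h a) :=
  f.hom.compat h a

lemma fet_ext {A B : FEt X} {f g : A ⟶ B} (h : ∀ p a, f.hom.app p a = g.hom.app p a) : f = g :=
  ObjectProperty.hom_ext _ (Alg.hom_ext _ _ fun p => AlgHom.ext (h p))

/-- build a morphism of étale covers -/
def fetHomMk {A B : FEt X} (app : ∀ p : X.pt, A.obj.carrier p →ₐ[X.ring p] B.obj.carrier p)
    (compat : ∀ {p q : X.pt} (h : p ≤ q) (a : A.obj.carrier p),
      B.obj.res h (app p a) = app q (A.obj.res h a)) : A ⟶ B :=
  ObjectProperty.homMk ⟨app, compat⟩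

@[simp] lemma fetHomMk_app {A B : FEt X}
    (app : ∀ p : X.pt, A.obj.carrier p →ₐ[X.ring p] B.obj.carrier p)
    (compat : ∀ {p q : X.pt} (h : p ≤ q) (a : A.obj.carrier p),
      B.obj.res h (app p a) = app q (A.obj.res h a)) (p : X.pt) :
    (fetHomMk app compat).hom.app p = app p := rfl

@[simp] lemma fet_id_app (A : FEt X) (p : X.pt) (a : A.obj.carrier p) :
    (𝟙 A : A ⟶ A).hom.app p a = a := rfl

@[simp] lemma fet_comp_app {A B C : FEt X} (f : A ⟶ B) (g : B ⟶ C) (p : X.pt)
    (a : A.obj.carrier p) : (f ≫ g).hom.app p a = g.hom.app p (f.hom.app p a) := rfl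

lemma isIso_of_bijective {A B : FEt X} (f : A ⟶ B)
    (hf : ∀ p, Function.Bijective (f.hom.app p)) : IsIso f := by
  let g : B ⟶ A := fetHomMk (fun p => (AlgEquiv.ofBijective (f.hom.app p) (hf p)).symm.toAlgHom)
    (fun {p q} h b => by
      apply (hf q).1
      rw [← app_res]
      show B.obj.res h (f.hom.app p ((AlgEquiv.ofBijective (f.hom.app p) (hf p)).symm b)) =
        f.hom.app q ((AlgEquiv.ofBijective (f.hom.app q) (hf q)).symm (B.obj.res h b))
      rw [AlgEquiv.ofBijective_apply_symm_apply, AlgEquiv.ofBijective_apply_symm_apply])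
  exact ⟨g, fet_ext fun p a => AlgEquiv.ofBijective_symm_apply_apply (f.hom.app p) (hf p) a,
    fet_ext fun p b => AlgEquiv.ofBijective_apply_symm_apply (f.hom.app p) (hf p) b⟩

/-- the trivial cover -/
noncomputable def strObj : FEt X :=
  ⟨Alg.str X, (isQcoh_iff _).mpr (fun p q h => by
    letI : Algebra (X.ring p) (X.ring q) := (X.res h).toAlgebra
    exact isBC_self (R := X.ring p) (S := X.ring q) (fun _ => rfl)),
    fun p => ⟨inferInstanceAs (Module.Finite (X.ring p) (X.ring p)),
      inferInstanceAs (Algebra.Etale (X.ring p) (X.ring p))⟩⟩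

/-- product of algebras -/
def prodAlg (A B : Alg X) : Alg X where
  carrier p := A.carrier p × B.carrier p
  instRing p := inferInstance
  instAlg p := inferInstance
  res h := (A.res h).prodMap (B.res h)
  res_algebraMap h a := Prod.ext (A.res_algebraMap h a) (B.res_algebraMap h a)
  res_self p b := Prod.ext (A.res_self p b.1) (B.res_self p b.2)
  res_comp h h' b := Prod.ext (A.res_comp h h' b.1) (B.res_comp h h' b.2)

/-- product of covers -/
def prodObj (A B : FEt X) : FEt X :=
  ⟨prodAlg A.obj B.obj, (isQcoh_iff _).mpr (fun p q h => by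
    letI : Algebra (X.ring p) (X.ring q) := (X.res h).toAlgebra
    exact (isBC_prod _ _ _ _ _).mpr ⟨fet_bc A h, fet_bc B h⟩),
    fun p => ⟨inferInstanceAs (Module.Finite (X.ring p) (A.obj.carrier p × B.obj.carrier p)),
      etale_prod (A := A.obj.carrier p) (B := B.obj.carrier p)⟩⟩

/-- zero algebra -/
def zeroAlg (X : RSpace.{u}) : Alg X where
  carrier _ := PUnit.{u + 1}
  instRing _ := inferInstance
  instAlg _ := inferInstance
  res _ := RingHom.id _
  res_algebraMap _ _ := rfl
  res_self _ _ := rfl
  res_comp _ _ _ := rfl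

/-- zero cover -/
def zeroObj : FEt X :=
  ⟨zeroAlg X, (isQcoh_iff _).mpr (fun p q h => by
    letI : Algebra (X.ring p) (X.ring q) := (X.res h).toAlgebra
    have : Subsingleton ((zeroAlg X).carrier p) := inferInstanceAs (Subsingleton PUnit)
    have : Subsingleton ((zeroAlg X).carrier q) := inferInstanceAs (Subsingleton PUnit)
    exact ⟨fun a b _ => Subsingleton.elim a b, fun b => ⟨0, Subsingleton.elim _ _⟩⟩),
    fun p => ⟨inferInstanceAs (Module.Finite (X.ring p) PUnit.{u + 1}),
      @Algebra.Etale.of_equiv (X.ring p) (X.ring p ⧸ Ideal.span ({1} : Set (X.ring p))) PUnit.{u + 1}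
        _ _ _ _ _ (etale_quotient_of_idem IsIdempotentElem.one)
        { toFun := fun _ => PUnit.unit
          invFun := fun _ => 0
          left_inv := fun x => by
            have : Subsingleton (X.ring p ⧸ Ideal.span ({1} : Set (X.ring p))) :=
              Ideal.Quotient.subsingleton_iff.mpr Ideal.span_singleton_one
            exact Subsingleton.elim _ _
          right_inv := fun _ => rfl
          map_mul' := fun _ _ => rfl
          map_add' := fun _ _ => rfl
          commutes' := fun _ => rfl }⟩⟩

section Image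

variable {A B : Alg X} (f : A ⟶ B)

/-- pointwise image of a morphism -/
def imgAlg : Alg X where
  carrier p := (f.app p).range
  instRing p := inferInstance
  instAlg p := inferInstance
  res {p q} h := ((B.res h).comp (f.app p).range.val.toRingHom).codRestrict (f.app q).range
    (fun b => by
      obtain ⟨a, ha⟩ := (AlgHom.mem_range _).mp b.2
      exact (AlgHom.mem_range _).mpr ⟨A.res h a, by
        rw [← f.compat h a, ha]
        rfl⟩)
  res_algebraMap h a := Subtype.ext (B.res_algebraMap h a)
  res_self p b := Subtype.ext (B.res_self p b.1)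
  res_comp h h' b := Subtype.ext (B.res_comp h h' b.1)

end Image

lemma imgAlg_bc {A B : FEt X} (hX : X.IsSchematic) (f : A ⟶ B) {p q : X.pt} (h : p ≤ q) :
    AlgBC (imgAlg f.hom) h := by
  letI : Algebra (X.ring p) (X.ring q) := (X.res h).toAlgebra
  have : Module.Flat (X.ring p) (X.ring q) := flat_res hX h
  exact isBC_image (A.obj.res h) (A.obj.res_algebraMap h) ((imgAlg f.hom).res h)
    ((imgAlg f.hom).res_algebraMap h) (B.obj.res h) (B.obj.res_algebraMap h)
    (f.hom.app p).rangeRestrict (f.hom.app q).rangeRestrict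
    (fun x => Subtype.ext (f.hom.compat h x).symm)
    (f.hom.app p).range.val (f.hom.app q).range.val (fun _ => rfl)
    (f.hom.app q).rangeRestrict_surjective Subtype.val_injective (fet_bc A h).2 (fet_bc B h).1

/-- image cover -/
def imgObj {A B : FEt X} (hX : X.IsSchematic) (f : A ⟶ B) : FEt X :=
  ⟨imgAlg f.hom, (isQcoh_iff _).mpr (fun _ _ h => imgAlg_bc hX f h), fun p => by
    have := noeth hX p
    exact ⟨finite_range (f.hom.app p), etale_range (f.hom.app p)⟩⟩

/-- to the image -/
def imgπ {A B : FEt X} (hX : X.IsSchematic) (f : A ⟶ B) : A ⟶ imgObj hX f :=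
  fetHomMk (fun p => (f.hom.app p).rangeRestrict) (fun h a => Subtype.ext (f.hom.compat h a))

/-- from the image -/
def imgι {A B : FEt X} (hX : X.IsSchematic) (f : A ⟶ B) : imgObj hX f ⟶ B :=
  fetHomMk (fun p => (f.hom.app p).range.val) (fun _ _ => rfl)

/-- pushout algebra -/
noncomputable def pushAlg {A B C : Alg X} (f : C ⟶ A) (g : C ⟶ B) : Alg X where
  carrier p := Push (f.app p) (g.app p)
  instRing p := inferInstance
  instAlg p := inferInstance
  res {p q} h :=
    letI : Algebra (X.ring p) (X.ring q) := (X.res h).toAlgebra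
    Push.map (A.res h) (A.res_algebraMap h) (B.res h) (B.res_algebraMap h) (C.res h)
      (f.app p) (g.app p) (f.app q) (g.app q) (fun x => (f.compat h x).symm)
      (fun x => (g.compat h x).symm)
  res_algebraMap {p q} h a := by
    letI : Algebra (X.ring p) (X.ring q) := (X.res h).toAlgebra
    exact Push.map_algebraMap _ _ _ _ _ _ _ _ _ _ _ a
  res_self p b := by
    letI : Algebra (X.ring p) (X.ring p) := (X.res le_rfl).toAlgebra
    refine RingHom.congr_fun (g := RingHom.id _) (Push.hom_ext _ _ (fun x => ?_) (fun x => ?_)) b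
    · rw [Push.map_inl, A.res_self]; rfl
    · rw [Push.map_inr, B.res_self]; rfl
  res_comp {p q s} h h' b := by
    letI : Algebra (X.ring p) (X.ring q) := (X.res h).toAlgebra
    letI : Algebra (X.ring q) (X.ring s) := (X.res h').toAlgebra
    letI : Algebra (X.ring p) (X.ring s) := (X.res (h.trans h')).toAlgebra
    refine RingHom.congr_fun
      (f := RingHom.comp (Push.map (A.res h') (A.res_algebraMap h') (B.res h') (B.res_algebraMap h')
        (C.res h') (f.app q) (g.app q) (f.app s) (g.app s) (fun x => (f.compat h' x).symm)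
        (fun x => (g.compat h' x).symm)) _) (Push.hom_ext _ _ (fun x => ?_) (fun x => ?_)) b
    · rw [RingHom.comp_apply, Push.map_inl, Push.map_inl, Push.map_inl, A.res_comp]
    · rw [RingHom.comp_apply, Push.map_inr, Push.map_inr, Push.map_inr, B.res_comp]

/-- pushout cover -/
noncomputable def pushObj {A B C : FEt X} (hX : X.IsSchematic) (f : C ⟶ A) (g : C ⟶ B) : FEt X :=
  ⟨pushAlg f.hom g.hom, (isQcoh_iff _).mpr (fun p q h => by
    letI : Algebra (X.ring p) (X.ring q) := (X.res h).toAlgebra
    exact Push.isBC _ _ _ _ _ (C.obj.res_algebraMap h) _ _ _ _ (fun x => (f.hom.compat h x).symm)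
      (fun x => (g.hom.compat h x).symm) (fet_bc A h) (fet_bc B h) (fet_bc C h)), fun p => by
    have := noeth hX p
    exact ⟨Push.finite (f.hom.app p) (g.hom.app p), Push.etale (f.hom.app p) (g.hom.app p)⟩⟩

end Groth.Agent.SchFinLib
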