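import Mathlib.FieldTheory.IsAlgClosed.Basic
import Mathlib.RingTheory.Ideal.GoingUp
import Mathlib.RingTheory.Polynomial.Basic
import Mathlib.RingTheory.Finiteness.Basic
import Mathlib.RingTheory.IntegralClosure.IsIntegralClosure.Basic

/-!
# Points of algebras with values in an algebraically closed field
-/

set_option autoImplicit false

open Polynomial

namespace Groth.Agent.SchFinLib

universe u

variable {R A B Ω : Type u} [CommRing R] [CommRing A] [CommRing B] [Field Ω]
  [Algebra R A] [Algebra R B] [Algebra R Ω]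

/-- extension of points along a finite injection -/
lemma exists_point_extend [IsAlgClosed Ω] [Module.Finite R B] (i : A →ₐ[R] B)
    (hi : Function.Injective i) (φ : A →ₐ[R] Ω) : ∃ ψ : B →ₐ[R] Ω, ψ.comp i = φ := by
  let _ : Algebra A B := i.toRingHom.toAlgebra
  have : IsScalarTower R A B := IsScalarTower.of_algebraMap_eq fun r => (i.commutes r).symm
  have : Module.Finite A B := Module.Finite.of_restrictScalars_finite R A B
  let P : Ideal A := RingHom.ker φ
  have hP : P.IsPrime := RingHom.ker_isPrime φ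
  obtain ⟨Q, -, hQ, hQP⟩ := Ideal.exists_ideal_over_prime_of_isIntegral (S := B) P ⊥
    (by rw [← RingHom.ker_eq_comap_bot, (RingHom.injective_iff_ker_eq_bot (algebraMap A B)).mp hi]; exact bot_le)
  let g : A ⧸ P →+* B ⧸ Q := Ideal.quotientMap Q (algebraMap A B) hQP.ge
  have hg : Function.Injective g := Ideal.quotientMap_injective' hQP.le
  let _ : Algebra (A ⧸ P) (B ⧸ Q) := g.toAlgebra
  let _ : Algebra (A ⧸ P) Ω := (RingHom.kerLift φ.toRingHom).toAlgebra
  have : FaithfulSMul (A ⧸ P) (B ⧸ Q) := (faithfulSMul_iff_algebraMap_injective _ _).mpr hg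
  have : FaithfulSMul (A ⧸ P) Ω :=
    (faithfulSMul_iff_algebraMap_injective _ _).mpr (RingHom.kerLift_injective φ.toRingHom)
  have : IsScalarTower A (A ⧸ P) (B ⧸ Q) :=
    IsScalarTower.of_algebraMap_eq fun a => rfl
  have : Algebra.IsIntegral (A ⧸ P) (B ⧸ Q) :=
    Algebra.IsIntegral.tower_top A
  have : Algebra.IsAlgebraic (A ⧸ P) (B ⧸ Q) := Algebra.IsIntegral.isAlgebraic
  let l : B ⧸ Q →ₐ[A ⧸ P] Ω := IsAlgClosed.lift
  have hl : ∀ a : A, l (Ideal.Quotient.mk Q (i a)) = φ a := fun a =>
    l.commutes (Ideal.Quotient.mk P a)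
  refine ⟨{ toRingHom := l.toRingHom.comp (Ideal.Quotient.mk Q), commutes' := fun r => ?_ },
    AlgHom.ext hl⟩
  show l (Ideal.Quotient.mk Q (algebraMap R B r)) = _
  rw [← i.commutes r, hl, φ.commutes]

/-- points equal on invariants differ by a group element -/
lemma exists_point_conj {Γ : Type u} [Group Γ] [Finite Γ] (σ : Γ → (A →ₐ[R] A))
    (hσ : ∀ g h a, σ (g * h) a = σ g (σ h a)) (hσ1 : ∀ a, σ 1 a = a) [Module.Finite R A]
    (φ ψ : A →ₐ[R] Ω) (h : ∀ a, (∀ g, σ g a = a) → φ a = ψ a) :
    ∃ g, ψ = φ.comp (σ g) := by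
  classical
  have := Fintype.ofFinite Γ
  obtain ⟨n, b, hb⟩ := Module.Finite.exists_fin (R := R) (M := A)
  let a : A[X] := ∑ i : Fin n, C (b i) * X ^ (i : ℕ)
  let P : A[X][X] := ∏ g : Γ, (X - C (a.map (σ g).toRingHom))
  have hinv : ∀ g k j, σ g ((P.coeff k).coeff j) = (P.coeff k).coeff j := by
    intro g k j
    have hP : P.map (mapRingHom (σ g).toRingHom) = P := by
      simp only [P, Polynomial.map_prod, Polynomial.map_sub, Polynomial.map_X, Polynomial.map_C,
        coe_mapRingHom, Polynomial.map_map]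
      refine Fintype.prod_equiv (Equiv.mulLeft g) _ _ fun k => ?_
      congr 3
      exact RingHom.ext fun x => (hσ g k x).symm
    conv_rhs => rw [← hP]
    simp [Polynomial.coeff_map]
  have heq : P.map (mapRingHom φ.toRingHom) = P.map (mapRingHom ψ.toRingHom) := by
    ext k j
    simpa [Polynomial.coeff_map] using h _ (fun g => hinv g k j)
  have hev := congrArg (Polynomial.eval (a.map ψ.toRingHom)) heq
  simp only [P, Polynomial.map_prod, Polynomial.map_sub, Polynomial.map_X, Polynomial.map_C,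
    coe_mapRingHom, Polynomial.eval_prod, Polynomial.eval_sub, Polynomial.eval_X,
    Polynomial.eval_C, Polynomial.map_map] at hev
  have h0 : ∏ g : Γ, (a.map ψ.toRingHom - a.map (ψ.toRingHom.comp (σ g).toRingHom)) = 0 := by
    refine Finset.prod_eq_zero (Finset.mem_univ 1) (sub_eq_zero.mpr ?_)
    congr 1
    exact RingHom.ext fun x => (congrArg ψ (hσ1 x)).symm
  rw [h0] at hev
  obtain ⟨g, -, hg⟩ := Finset.prod_eq_zero_iff.mp hev
  refine ⟨g, AlgHom.toLinearMap_injective (LinearMap.ext_on_range hb fun i => ?_)⟩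
  have := congrArg (fun p => p.coeff (i : ℕ)) (sub_eq_zero.mp hg)
  simp only [a, Polynomial.coeff_map, Polynomial.finsetSum_coeff, Polynomial.coeff_C_mul,
    Polynomial.coeff_X_pow, mul_ite, mul_one, mul_zero, Fin.val_inj] at this
  simpa using this

end Groth.Agent.SchFinLib
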