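import Groth.Agent.SchFinLib.BC
import Groth.Agent.SchFinLib.FEtAlg
import Mathlib.RingTheory.TotallySplit
import Mathlib.RingTheory.Etale.Descent
import Mathlib.RingTheory.Smooth.Fiber
import Mathlib.RingTheory.Kaehler.TensorProduct
import Mathlib.RingTheory.Flat.Localization
import Mathlib.RingTheory.Flat.FaithfullyFlat.Algebra
import Mathlib.RingTheory.LocalRing.Basic
import Mathlib.RingTheory.Localization.BaseChange

/-!
# Invariants of finite étale algebras under finite groups
-/

set_option autoImplicit false

open TensorProduct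

namespace Groth.Agent.SchFinLib

universe u

variable {R A : Type u} [CommRing R] [CommRing A] [Algebra R A]

/-- fixed algebra of a family of endomorphisms -/
def invAlgebra {ι : Type u} (σ : ι → (A →ₐ[R] A)) : Subalgebra R A where
  carrier := {a | ∀ g, σ g a = a}
  mul_mem' {a b} ha hb g := by rw [map_mul, ha g, hb g]
  one_mem' g := map_one _
  add_mem' {a b} ha hb g := by rw [map_add, ha g, hb g]
  zero_mem' g := map_zero _
  algebraMap_mem' r g := (σ g).commutes r

lemma isBC_includeRight (T : Type u) [CommRing T] [Algebra R T] :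
    IsBC (R := R) (S := T) (Algebra.TensorProduct.includeRight : A →ₐ[R] T ⊗[R] A).toRingHom
      (fun r => by
        show Algebra.TensorProduct.includeRight (algebraMap R A r) = _
        rw [AlgHom.commutes, IsScalarTower.algebraMap_apply R T (T ⊗[R] A)]) := by
  refine isBC_of_universal _ _ ⟨AlgHom.id T _, fun x => rfl⟩ (fun f g e => ?_)
  refine Algebra.TensorProduct.ext (AlgHom.ext fun t => ?_) (AlgHom.ext fun x => e x)
  show f (algebraMap T (T ⊗[R] A) t) = g (algebraMap T (T ⊗[R] A) t)
  rw [f.commutes, g.commutes]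

/-- base change of the fixed algebra -/
lemma exists_baseChange_invAlgebra {ι : Type u} [Finite ι] (σ : ι → (A →ₐ[R] A)) (T : Type u)
    [CommRing T] [Algebra R T] [Module.Flat R T] :
    Nonempty (T ⊗[R] invAlgebra σ ≃ₐ[T]
      invAlgebra fun g => Algebra.TensorProduct.map (AlgHom.id T T) (σ g)) := by
  let τ := fun g => Algebra.TensorProduct.map (AlgHom.id T T) (σ g)
  let e : invAlgebra σ →+* invAlgebra τ :=
    ((Algebra.TensorProduct.includeRight : A →ₐ[R] T ⊗[R] A).toRingHom.comp
      (invAlgebra σ).val.toRingHom).codRestrict _ (fun x g => by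
        show τ g ((1 : T) ⊗ₜ[R] x.1) = (1 : T) ⊗ₜ[R] x.1
        simp only [τ, Algebra.TensorProduct.map_tmul, map_one]
        rw [x.2 g])
  have he : ∀ r, e (algebraMap R (invAlgebra σ) r) =
      algebraMap T (invAlgebra τ) (algebraMap R T r) := by
    intro r
    refine Subtype.ext ?_
    show (Algebra.TensorProduct.includeRight : A →ₐ[R] T ⊗[R] A) (algebraMap R A r) = _
    rw [AlgHom.commutes, IsScalarTower.algebraMap_apply R T (T ⊗[R] A)]
    rfl
  have hbc := isBC_includeRight (R := R) (A := A) T
  refine ⟨bcEquiv (a := e) (ha := he) ?_⟩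
  refine isBC_equalizer e he _ _ _ _ (invAlgebra σ).val (invAlgebra τ).val (fun x => rfl)
    Subtype.val_injective Subtype.val_injective σ (fun _ => AlgHom.id R A) τ
    (fun _ => AlgHom.id T _) (fun k x => ?_) (fun k x => rfl) (fun x => ?_) (fun x hx k => ?_)
    hbc hbc.1
  · rfl
  · exact ⟨fun ⟨y, hy⟩ k => hy ▸ y.2 k, fun hk => ⟨⟨x, hk⟩, rfl⟩⟩
  · obtain ⟨y, rfl⟩ := hx
    exact y.2 k

lemma exists_perm_of_local {n : ℕ} {T : Type u} [CommRing T] [IsLocalRing T]
    (f : (Fin n → T) →ₐ[T] T) : ∃ j, ∀ x, f x = x j := by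
  classical
  have hsum : ∀ x : Fin n → T, f x = ∑ i, x i * f (Pi.single i 1) := by
    intro x
    conv_lhs => rw [pi_eq_sum_univ' x, map_sum]
    exact Finset.sum_congr rfl fun i _ => by rw [map_smul, smul_eq_mul]
  have hone : (1 : T) = ∑ i, f (Pi.single i 1) := by
    have := hsum 1
    simpa using this
  obtain ⟨j, -, hj⟩ : ∃ j ∈ (Finset.univ : Finset (Fin n)), IsUnit (f (Pi.single j 1)) := by
    by_contra hcon
    push Not at hcon
    exact (IsLocalRing.maximalIdeal.isMaximal T).ne_top ((Ideal.eq_top_iff_one _).mpr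
      (hone ▸ Ideal.sum_mem _ fun i hi => hcon i hi))
  refine ⟨j, fun x => ?_⟩
  have h1 : f (Pi.single j 1) = 1 := by
    refine hj.mul_left_cancel ?_
    rw [← map_mul, mul_one]
    congr 1
    funext i
    by_cases hi : i = j
    · subst hi; simp
    · simp [hi]
  have h0 : ∀ i, i ≠ j → f (Pi.single i 1) = 0 := by
    intro i hi
    have : f (Pi.single i 1 * Pi.single j 1) = 0 := by
      rw [show (Pi.single i 1 * Pi.single j 1 : Fin n → T) = 0 from ?_, map_zero]
      funext k
      by_cases hk : k = i
      · subst hk; simp [hi]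
      · simp [hk]
    rwa [map_mul, h1, mul_one] at this
  rw [hsum x, Finset.sum_eq_single j (fun i _ hi => by rw [h0 i hi, mul_zero])
    (fun h => absurd (Finset.mem_univ j) h), h1, mul_one]

/-- invariants in a split algebra over a local ring -/
lemma etale_invAlgebra_pi {n : ℕ} {T : Type u} [CommRing T] [IsLocalRing T] {ι : Type u}
    (σ : ι → ((Fin n → T) →ₐ[T] (Fin n → T))) : Algebra.Etale T (invAlgebra σ) := by
  have h : ∀ g i, ∃ j, ∀ x, σ g x i = x j := fun g i =>
    exists_perm_of_local ((Pi.evalAlgHom T (fun _ : Fin n => T) i).comp (σ g))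
  choose π hπ using h
  let rel : Fin n → Fin n → Prop := fun i j => ∃ g, π g i = j
  let Q := Quot rel
  have : Finite Q := Finite.of_surjective (Quot.mk rel) (fun q => Quot.exists_rep q)
  let e : (Q → T) ≃ₐ[T] invAlgebra σ :=
    { toFun := fun x => ⟨fun i => x (Quot.mk rel i), fun g => funext fun i => by
        rw [hπ g i]
        exact (congrArg x (Quot.sound ⟨g, rfl⟩)).symm⟩
      invFun := fun y => Quot.lift y.1 (fun i j ⟨g, hg⟩ => by
        rw [← hg, ← hπ g i y.1]
        exact (congrFun (y.2 g) i).symm)
      left_inv := fun x => funext fun q => Quot.inductionOn q fun i => rfl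
      right_inv := fun y => Subtype.ext rfl
      map_mul' := fun _ _ => rfl
      map_add' := fun _ _ => rfl
      commutes' := fun _ => rfl }
  exact Algebra.Etale.of_equiv e

/-- transport of the fixed algebra -/
def invAlgebraCongr {B : Type u} [CommRing B] [Algebra R B] {ι : Type u} (σ : ι → (A →ₐ[R] A))
    (e : A ≃ₐ[R] B) :
    invAlgebra σ ≃ₐ[R] invAlgebra fun g => e.toAlgHom.comp ((σ g).comp e.symm.toAlgHom) where
  toFun x := ⟨e x.1, fun g => by
    show e (σ g (e.symm (e x.1))) = e x.1
    rw [e.symm_apply_apply, x.2 g]⟩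
  invFun y := ⟨e.symm y.1, fun g => by
    apply e.injective
    rw [e.apply_symm_apply]
    exact y.2 g⟩
  left_inv x := Subtype.ext (e.symm_apply_apply x.1)
  right_inv y := Subtype.ext (e.apply_symm_apply y.1)
  map_mul' x y := Subtype.ext (map_mul e x.1 y.1)
  map_add' x y := Subtype.ext (map_add e x.1 y.1)
  commutes' r := Subtype.ext (e.commutes r)

lemma etale_invAlgebra_local [IsLocalRing R] [IsNoetherianRing R] [Module.Finite R A]
    [Algebra.Etale R A] {ι : Type u} [Finite ι] (σ : ι → (A →ₐ[R] A)) :
    Algebra.Etale R (invAlgebra σ) := by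
  have : Module.Free R A := Module.free_of_flat_of_isLocalRing
  obtain ⟨T, _, _, _, _, _, hT⟩ :=
    Algebra.IsFiniteSplit.exists_tensorProduct_of_etale (R := R) (S := A)
      (n := Module.finrank R A) (by rw [Module.rankAtStalk_eq_finrank_of_free])
  obtain ⟨M, hMR⟩ := PrimeSpectrum.comap_surjective_of_faithfullyFlat (B := T)
    ⟨IsLocalRing.maximalIdeal R, inferInstance⟩
  let T' := Localization.AtPrime M.asIdeal
  have : Module.Flat T T' := IsLocalization.flat _ M.asIdeal.primeCompl
  have : Module.Flat R T' := Module.Flat.trans R T T'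
  have : IsLocalHom (algebraMap R T') := by
    constructor
    intro r hr
    by_contra hnu
    have h1 : r ∈ M.asIdeal.comap (algebraMap R T) := by
      rw [show M.asIdeal.comap (algebraMap R T) = IsLocalRing.maximalIdeal R from
        congrArg PrimeSpectrum.asIdeal hMR]
      exact hnu
    rw [IsScalarTower.algebraMap_apply R T T',
      IsLocalization.AtPrime.isUnit_to_map_iff T' M.asIdeal] at hr
    exact hr h1
  have : Module.FaithfullyFlat R T' := Module.FaithfullyFlat.of_flat_of_isLocalHom
  have : Algebra.IsFiniteSplit T' (T' ⊗[R] A) :=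
    Algebra.IsFiniteSplit.of_algEquiv (Algebra.TensorProduct.cancelBaseChange R T T' T' A)
  obtain ⟨n, ⟨f⟩⟩ := Algebra.IsFiniteSplit.nonempty_algEquiv_fun T' (T' ⊗[R] A)
  obtain ⟨e⟩ := exists_baseChange_invAlgebra σ T'
  let τ := fun g => Algebra.TensorProduct.map (AlgHom.id T' T') (σ g)
  have : Algebra.Etale T' (invAlgebra τ) :=
    have := etale_invAlgebra_pi fun g => f.toAlgHom.comp ((τ g).comp f.symm.toAlgHom)
    Algebra.Etale.of_equiv (invAlgebraCongr τ f).symm
  have : Algebra.Etale T' (T' ⊗[R] invAlgebra σ) := Algebra.Etale.of_equiv e.symm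
  exact Algebra.Etale.of_etale_tensorProduct_of_faithfullyFlat (T := T')

attribute [local instance] Algebra.TensorProduct.rightAlgebra

lemma finite_invAlgebra [IsNoetherianRing R] [Module.Finite R A] {ι : Type u}
    (σ : ι → (A →ₐ[R] A)) : Module.Finite R (invAlgebra σ) :=
  Module.Finite.of_injective (invAlgebra σ).val.toLinearMap Subtype.val_injective

lemma etale_invAlgebra [IsNoetherianRing R] [Module.Finite R A]
    [Algebra.Etale R A] {ι : Type u} [Finite ι] (σ : ι → (A →ₐ[R] A)) :
    Algebra.Etale R (invAlgebra σ) := by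
  let E := invAlgebra σ
  have := finite_invAlgebra σ
  have hloc : ∀ (m : Ideal R) [m.IsMaximal],
      Algebra.Etale (Localization.AtPrime m) (Localization.AtPrime m ⊗[R] E) := by
    intro m _
    let L := Localization.AtPrime m
    have : Module.Flat R L := IsLocalization.flat _ m.primeCompl
    have : IsNoetherianRing L := IsLocalization.isNoetherianRing m.primeCompl L inferInstance
    obtain ⟨e⟩ := exists_baseChange_invAlgebra σ L
    have := etale_invAlgebra_local (R := L) fun g => Algebra.TensorProduct.map (AlgHom.id L L) (σ g)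
    exact Algebra.Etale.of_equiv e.symm
  have : Module.Flat R E := by
    refine Module.flat_of_localized_maximal E fun m hm => ?_
    let L := Localization.AtPrime m
    have := hloc m
    have : Module.Flat R L := IsLocalization.flat _ m.primeCompl
    have : Module.Flat R (L ⊗[R] E) := Module.Flat.trans R L _
    exact Module.Flat.of_linearEquiv
      (IsLocalizedModule.iso m.primeCompl (TensorProduct.mk R L E 1))
  have : Algebra.FormallyUnramified R E := by
    refine ⟨subsingleton_of_forall_eq 0 fun x => ?_⟩
    by_contra hx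
    obtain ⟨m, hm, hle⟩ := Ideal.exists_le_maximal (LinearMap.ker (LinearMap.toSpanSingleton R _ x))
      (fun htop => hx (by
        have := (Ideal.eq_top_iff_one _).mp htop
        simpa using this))
    let L := Localization.AtPrime m
    have := hloc m
    have : Subsingleton (L ⊗[R] Ω[E⁄R]) :=
      (KaehlerDifferential.tensorKaehlerEquivBase R L E (L ⊗[R] E)).injective.subsingleton
    obtain ⟨s, hs⟩ := (IsLocalizedModule.eq_zero_iff m.primeCompl
      (TensorProduct.mk R L (Ω[E⁄R]) 1)).mp (Subsingleton.elim _ 0 : TensorProduct.mk R L _ 1 x = 0)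
    exact s.2 (hle hs)
  have : Algebra.FiniteType R E := inferInstance
  have : Algebra.FinitePresentation R E := Algebra.FinitePresentation.of_finiteType.mp inferInstance
  exact Algebra.Etale.of_formallyUnramified_of_flat

end Groth.Agent.SchFinLib
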