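import Groth.Agent.SchFinLib.Cat
import Groth.Agent.SchFinLib.Invariants
import Mathlib.CategoryTheory.SingleObj

/-!
# Invariants of étale covers under finite groups
-/

set_option autoImplicit false

open TensorProduct CategoryTheory CategoryTheory.Limits

namespace Groth.Agent.SchFinLib

open SchFin

universe u

variable {X : RSpace.{u}} {G : Type u} [Group G] (F : SingleObj G ⥤ FEt X)

/-- the object acted on -/
abbrev actObj : FEt X := F.obj (SingleObj.star G)

/-- the action -/
def actMap (g : G) : actObj F ⟶ actObj F :=
  F.map (X := SingleObj.star G) (Y := SingleObj.star G) g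

/-- the action at a point -/
def actApp (p : X.pt) (g : G) : (actObj F).obj.carrier p →ₐ[X.ring p] (actObj F).obj.carrier p :=
  (actMap F g).hom.app p

lemma actApp_mul (p : X.pt) (g h : G) (a : (actObj F).obj.carrier p) :
    actApp F p (g * h) a = actApp F p g (actApp F p h a) := by
  have : actMap F (g * h) = actMap F h ≫ actMap F g :=
    F.map_comp (X := SingleObj.star G) (Y := SingleObj.star G) (Z := SingleObj.star G) h g
  show (actMap F (g * h)).hom.app p a = _
  rw [this]
  rfl

lemma actApp_one (p : X.pt) (a : (actObj F).obj.carrier p) : actApp F p 1 a = a := by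
  have : actMap F 1 = 𝟙 _ := F.map_id (SingleObj.star G)
  show (actMap F 1).hom.app p a = a
  rw [this]
  rfl

/-- invariant algebra -/
def invAlg : Alg X where
  carrier p := invAlgebra (actApp F p)
  instRing p := inferInstance
  instAlg p := inferInstance
  res {p q} h := (((actObj F).obj.res h).comp (invAlgebra (actApp F p)).val.toRingHom).codRestrict
    (invAlgebra (actApp F q)) (fun a g => by
      show (actMap F g).hom.app q ((actObj F).obj.res h a.1) = (actObj F).obj.res h a.1
      rw [← app_res]
      exact congrArg _ (a.2 g))
  res_algebraMap h a := Subtype.ext ((actObj F).obj.res_algebraMap h a)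
  res_self p b := Subtype.ext ((actObj F).obj.res_self p b.1)
  res_comp h h' b := Subtype.ext ((actObj F).obj.res_comp h h' b.1)

/-- invariant cover -/
def invObj [Finite G] (hX : X.IsSchematic) : FEt X :=
  ⟨invAlg F, (isQcoh_iff _).mpr (fun p q h => by
    letI : Algebra (X.ring p) (X.ring q) := (X.res h).toAlgebra
    have : Module.Flat (X.ring p) (X.ring q) := flat_res hX h
    exact isBC_equalizer (ι := G) _ _ ((actObj F).obj.res h) ((actObj F).obj.res_algebraMap h)
      ((actObj F).obj.res h) ((actObj F).obj.res_algebraMap h)
      (invAlgebra (actApp F p)).val (invAlgebra (actApp F q)).val (fun _ => rfl)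
      Subtype.val_injective Subtype.val_injective (actApp F p) (fun _ => AlgHom.id _ _)
      (actApp F q) (fun _ => AlgHom.id _ _) (fun k x => ((actMap F k).hom.compat h x).symm)
      (fun _ _ => rfl) (fun x => ⟨fun ⟨y, hy⟩ k => hy ▸ y.2 k, fun hk => ⟨⟨x, hk⟩, rfl⟩⟩)
      (fun x hx k => by
        obtain ⟨y, rfl⟩ := hx
        exact y.2 k)
      (fet_bc (actObj F) h) (fet_bc (actObj F) h).1),
    fun p => by
      have := noeth hX p
      exact ⟨finite_invAlgebra (actApp F p), etale_invAlgebra (actApp F p)⟩⟩

variable [Finite G] (hX : X.IsSchematic)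

/-- inclusion of invariants -/
def invι : invObj F hX ⟶ actObj F :=
  fetHomMk (fun p => (invAlgebra (actApp F p)).val) (fun _ _ => rfl)

/-- the invariants cone -/
def invCone : Cone F where
  pt := invObj F hX
  π :=
    { app := fun _ => invι F hX
      naturality := fun i j g => fet_ext fun p a => (a.2 g).symm }

/-- the invariants are a limit -/
def invConeIsLimit : IsLimit (invCone F hX) where
  lift s := fetHomMk
    (fun p => ((s.π.app (SingleObj.star G)).hom.app p).codRestrict (invAlgebra (actApp F p))
      (fun a g => congrArg (fun k => k.hom.app p a) (s.w (j := SingleObj.star G) (j' := SingleObj.star G) g)))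
    (fun h a => Subtype.ext ((s.π.app (SingleObj.star G)).hom.compat h a))
  fac s j := fet_ext fun p a => rfl
  uniq s m hm := fet_ext fun p a =>
    Subtype.ext (congrArg (fun k => k.hom.app p a) (hm (SingleObj.star G)))

include hX in
lemma hasLimit_singleObj : HasLimit F := HasLimit.mk ⟨_, invConeIsLimit F hX⟩

end Groth.Agent.SchFinLib
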