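import Groth.Agent.SchFinLib.Limits
import Groth.Agent.SchFinLib.Quot
import Groth.Agent.SchFinLib.Points
import Mathlib.CategoryTheory.Limits.Shapes.Pullback.IsPullback.Basic
import Mathlib.CategoryTheory.Limits.Constructions.EpiMono
import Mathlib.CategoryTheory.Limits.FintypeCat
import Mathlib.CategoryTheory.Limits.Shapes.Opposites.Products
import Mathlib.CategoryTheory.Limits.Constructions.FiniteProductsOfBinaryProducts

/-!
# The fibre functor of a geometric point as a functor of points
-/

set_option autoImplicit false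

open TensorProduct CategoryTheory CategoryTheory.Limits Opposite

namespace Groth.Agent.SchFinLib

open SchFin

universe u

variable {X : RSpace.{u}} {Ω : Type u} [Field Ω] [IsAlgClosed Ω] (ξ : GeomPt X Ω)

/-- the algebra structure of the point -/
@[reducible] def ptAlgebra : Algebra (X.ring ξ.base) Ω := ξ.toField.toAlgebra

/-- points of a cover over the geometric point -/
abbrev Pts (A : FEt X) : Type u :=
  @AlgHom (X.ring ξ.base) (A.obj.carrier ξ.base) Ω _ _ _ _ (ptAlgebra ξ)

/-- points are primes of the fibre -/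
noncomputable def ptsEquivFib (A : FEt X) : Pts ξ A ≃ ξ.Fib A.obj :=
  letI := ptAlgebra ξ
  (Algebra.TensorProduct.liftEquivRight (X.ring ξ.base) Ω (A.obj.carrier ξ.base) Ω).trans
    (Algebra.IsFiniteSplit.algHomEquivPrimeSpectrum Ω (Ω ⊗[X.ring ξ.base] A.obj.carrier ξ.base))

instance (A : FEt X) : Finite (Pts ξ A) := Finite.of_equiv _ (ptsEquivFib ξ A).symm

/-- map of points -/
def ptsMap {A B : FEt X} (f : A ⟶ B) (φ : Pts ξ B) : Pts ξ A :=
  letI := ptAlgebra ξ
  (φ : B.obj.carrier ξ.base →ₐ[X.ring ξ.base] Ω).comp (f.hom.app ξ.base)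

/-- the functor of points -/
noncomputable def ptsFunctor : (FEt X)ᵒᵖ ⥤ FintypeCat.{u} where
  obj A := FintypeCat.of (Pts ξ A.unop)
  map f := FintypeCat.homMk (ptsMap ξ f.unop)

lemma ptsEquivFib_natural {A B : FEt X} (f : A ⟶ B) (φ : Pts ξ B) :
    ptsEquivFib ξ A (ptsMap ξ f φ) = ξ.fibMap f.hom (ptsEquivFib ξ B φ) := by
  letI := ptAlgebra ξ
  refine PrimeSpectrum.ext ?_
  let l : (C : FEt X) → Pts ξ C → (Ω ⊗[X.ring ξ.base] C.obj.carrier ξ.base →ₐ[Ω] Ω) := fun C ψ =>
    Algebra.TensorProduct.liftEquivRight (X.ring ξ.base) Ω (C.obj.carrier ξ.base) Ω ψ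
  have key : l A (ptsMap ξ f φ) =
      (l B φ).comp (Algebra.TensorProduct.map (AlgHom.id Ω Ω) (f.hom.app ξ.base)) := by
    refine Algebra.TensorProduct.ext (AlgHom.ext fun t => ?_) (AlgHom.ext fun x => ?_)
    · simp [l, Algebra.TensorProduct.liftEquivRight]
    · simp [l, ptsMap, Algebra.TensorProduct.liftEquivRight]
  show RingHom.ker (l A (ptsMap ξ f φ)) = Ideal.comap _ (RingHom.ker (l B φ))
  rw [key]
  rfl

/-- the comparison -/
noncomputable def ptsIso : ptsFunctor ξ ≅ ξ.fibFunctor :=
  NatIso.ofComponents (fun A => FintypeCat.equivEquivIso (ptsEquivFib ξ A.unop)) fun f => by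
    apply FintypeCat.hom_ext
    intro φ
    exact ptsEquivFib_natural ξ f.unop φ

lemma pts_ext {A : FEt X} {φ ψ : Pts ξ A} (h : ∀ a : A.obj.carrier ξ.base, φ a = ψ a) : φ = ψ :=
  letI := ptAlgebra ξ
  AlgHom.ext h

lemma ptsMap_comp {A B C : FEt X} (f : A ⟶ B) (g : B ⟶ C) (φ : Pts ξ C) :
    ptsMap ξ (f ≫ g) φ = ptsMap ξ f (ptsMap ξ g φ) := rfl

/-- points of the initial cover -/
lemma unique_pts_strObj : Subsingleton (Pts ξ strObj) ∧ Nonempty (Pts ξ (strObj : FEt X)) := by
  letI := ptAlgebra ξ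
  refine ⟨⟨fun φ ψ => pts_ext ξ fun a => ?_⟩, ⟨(Algebra.ofId (X.ring ξ.base) Ω : _ →ₐ[X.ring ξ.base] Ω)⟩⟩
  exact (AlgHom.commutes (φ : X.ring ξ.base →ₐ[X.ring ξ.base] Ω) a).trans
    (AlgHom.commutes (ψ : X.ring ξ.base →ₐ[X.ring ξ.base] Ω) a).symm

lemma isEmpty_pts_zeroObj : IsEmpty (Pts ξ (zeroObj : FEt X)) := by
  letI := ptAlgebra ξ
  refine ⟨fun φ => ?_⟩
  have := φ
  exact one_ne_zero (α := Ω) ((map_one (φ : PUnit.{u+1} →ₐ[X.ring ξ.base] Ω)).symm.trans
    (map_zero (φ : PUnit.{u+1} →ₐ[X.ring ξ.base] Ω)))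

/-- points of a product -/
lemma bijective_pts_prod (A B : FEt X) :
    Function.Bijective (Sum.elim (ptsMap ξ (prodFst A B)) (ptsMap ξ (prodSnd A B))) := by
  letI := ptAlgebra ξ
  constructor
  · rintro (φ | φ) (ψ | ψ) h
    · exact congrArg Sum.inl (pts_ext ξ fun a =>
        congrArg (fun k : Pts ξ (prodObj A B) =>
          (k : A.obj.carrier ξ.base × B.obj.carrier ξ.base →ₐ[X.ring ξ.base] Ω) (a, 0)) h)
    · have h' := congrArg (fun k : Pts ξ (prodObj A B) =>
        (k : A.obj.carrier ξ.base × B.obj.carrier ξ.base →ₐ[X.ring ξ.base] Ω) (1, 0)) h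
      change (φ : A.obj.carrier ξ.base →ₐ[X.ring ξ.base] Ω) 1 =
        (ψ : B.obj.carrier ξ.base →ₐ[X.ring ξ.base] Ω) 0 at h'
      rw [map_one, map_zero] at h'
      exact absurd h' one_ne_zero
    · have h' := congrArg (fun k : Pts ξ (prodObj A B) =>
        (k : A.obj.carrier ξ.base × B.obj.carrier ξ.base →ₐ[X.ring ξ.base] Ω) (1, 0)) h
      change (φ : B.obj.carrier ξ.base →ₐ[X.ring ξ.base] Ω) 0 =
        (ψ : A.obj.carrier ξ.base →ₐ[X.ring ξ.base] Ω) 1 at h'
      rw [map_one, map_zero] at h'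
      exact absurd h' zero_ne_one
    · exact congrArg Sum.inr (pts_ext ξ fun b =>
        congrArg (fun k : Pts ξ (prodObj A B) =>
          (k : A.obj.carrier ξ.base × B.obj.carrier ξ.base →ₐ[X.ring ξ.base] Ω) (0, b)) h)
  · intro χ
    let χ' : A.obj.carrier ξ.base × B.obj.carrier ξ.base →ₐ[X.ring ξ.base] Ω := χ
    have hadd : χ' (1, 0) + χ' (0, 1) = 1 := by
      rw [← map_add, Prod.mk_add_mk, add_zero, zero_add]; exact map_one χ'
    rcases eq_or_ne (χ' (0, 1)) 0 with h0 | h0
    · rw [h0, add_zero] at hadd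
      have key : ∀ a b, χ' (a, b) = χ' (a, 0) := fun a b => by
        calc χ' (a, b) = χ' (a, b) * χ' (1, 0) := by rw [hadd, mul_one]
          _ = χ' (a, 0) := by rw [← map_mul, Prod.mk_mul_mk, mul_one, mul_zero]
      refine ⟨Sum.inl
        ({ toFun := fun a => χ' (a, 0)
           map_one' := hadd
           map_mul' := fun a a' => by rw [← map_mul, Prod.mk_mul_mk, mul_zero]
           map_zero' := map_zero χ'
           map_add' := fun a a' => by rw [← map_add, Prod.mk_add_mk, add_zero]
           commutes' := fun r => (key _ _).symm.trans (χ'.commutes r) } :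
          A.obj.carrier ξ.base →ₐ[X.ring ξ.base] Ω), pts_ext ξ fun ab => ?_⟩
      exact (key ab.1 ab.2).symm
    · have hmul : χ' (1, 0) * χ' (0, 1) = 0 := by
        rw [← map_mul, Prod.mk_mul_mk, mul_zero, zero_mul]; exact map_zero χ'
      have h1 : χ' (1, 0) = 0 := (mul_eq_zero.mp hmul).resolve_right h0
      rw [h1, zero_add] at hadd
      have key : ∀ a b, χ' (a, b) = χ' (0, b) := fun a b => by
        calc χ' (a, b) = χ' (a, b) * χ' (0, 1) := by rw [hadd, mul_one]
          _ = χ' (0, b) := by rw [← map_mul, Prod.mk_mul_mk, mul_one, mul_zero]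
      refine ⟨Sum.inr
        ({ toFun := fun b => χ' (0, b)
           map_one' := hadd
           map_mul' := fun a a' => by rw [← map_mul, Prod.mk_mul_mk, mul_zero]
           map_zero' := map_zero χ'
           map_add' := fun a a' => by rw [← map_add, Prod.mk_add_mk, add_zero]
           commutes' := fun r => (key _ _).symm.trans (χ'.commutes r) } :
          B.obj.carrier ξ.base →ₐ[X.ring ξ.base] Ω), pts_ext ξ fun ab => ?_⟩
      exact (key ab.1 ab.2).symm

/-- points of a pushout -/
lemma bijective_pts_push {A B C : FEt X} (hX : X.IsSchematic) (f : C ⟶ A) (g : C ⟶ B)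
    (φ : Pts ξ A) (ψ : Pts ξ B) (h : ptsMap ξ f φ = ptsMap ξ g ψ) :
    ∃! χ : Pts ξ (pushObj hX f g),
      ptsMap ξ (pushInl hX f g) χ = φ ∧ ptsMap ξ (pushInr hX f g) χ = ψ := by
  letI := ptAlgebra ξ
  refine ⟨Push.desc (T := Ω) (f.hom.app ξ.base) (g.hom.app ξ.base) φ ψ h, ⟨?_, ?_⟩, ?_⟩
  · exact pts_ext ξ fun a => Push.desc_inl (T := Ω) (f.hom.app ξ.base) (g.hom.app ξ.base) φ ψ h a
  · exact pts_ext ξ fun a => Push.desc_inr (T := Ω) (f.hom.app ξ.base) (g.hom.app ξ.base) φ ψ h a
  · rintro χ ⟨h1, h2⟩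
    refine AlgHom.coe_ringHom_injective (Push.hom_ext _ _ (fun a => ?_) (fun b => ?_))
    · exact (AlgHom.congr_fun h1 a).trans
        (Push.desc_inl (T := Ω) (f.hom.app ξ.base) (g.hom.app ξ.base) φ ψ h a).symm
    · exact (AlgHom.congr_fun h2 b).trans
        (Push.desc_inr (T := Ω) (f.hom.app ξ.base) (g.hom.app ξ.base) φ ψ h b).symm

lemma surjective_ptsMap_of_injective {A B : FEt X} (f : A ⟶ B)
    (hf : Function.Injective (f.hom.app ξ.base)) : Function.Surjective (ptsMap ξ f) := by
  letI := ptAlgebra ξ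
  intro φ
  exact exists_point_extend (f.hom.app ξ.base) hf φ

lemma injective_ptsMap_of_surjective {A B : FEt X} (f : A ⟶ B)
    (hf : Function.Surjective (f.hom.app ξ.base)) : Function.Injective (ptsMap ξ f) := by
  letI := ptAlgebra ξ
  intro φ ψ h
  exact pts_ext ξ fun b => by
    obtain ⟨a, rfl⟩ := hf b
    exact AlgHom.congr_fun h a

lemma pts_preservesTerminal :
    PreservesLimitsOfShape (Discrete PEmpty.{1}) (ptsFunctor ξ) := by
  have hterm : IsTerminal ((ptsFunctor ξ).obj (op (strObj : FEt X))) := by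
    have hs := (unique_pts_strObj ξ).1
    let x := Classical.choice (unique_pts_strObj ξ).2
    exact IsTerminal.ofUniqueHom (fun _ => FintypeCat.homMk fun _ => x)
      (fun Y m => FintypeCat.hom_ext _ _ fun y => hs.elim _ _)
  have : PreservesLimit (Functor.empty.{0} (FEt X)ᵒᵖ) (ptsFunctor ξ) :=
    preservesLimit_of_preserves_limit_cone (terminalOpOfInitial strIsInitial)
      ((isLimitMapConeEmptyConeEquiv _ _).symm hterm)
  exact preservesLimitsOfShape_pempty_of_preservesTerminal (ptsFunctor ξ)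

lemma pts_preservesPullbacks (hX : X.IsSchematic) :
    PreservesLimitsOfShape WalkingCospan (ptsFunctor ξ) := by
  suffices ∀ {A B C : FEt X} (f : C ⟶ A) (g : C ⟶ B),
      PreservesLimit (cospan f.op g.op) (ptsFunctor ξ) by
    constructor
    intro K
    have : PreservesLimit (cospan (K.map WalkingCospan.Hom.inl) (K.map WalkingCospan.Hom.inr))
        (ptsFunctor ξ) := this (K.map WalkingCospan.Hom.inl).unop (K.map WalkingCospan.Hom.inr).unop
    exact preservesLimit_of_iso_diagram (ptsFunctor ξ) (diagramIsoCospan K).symm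
  intro A B C f g
  have hpb : IsPullback (pushInl hX f g).op (pushInr hX f g).op f.op g.op :=
    ((IsPushout.of_isColimit' ⟨push_w hX f g⟩ (pushIsColimit hX f g)).op).flip
  refine preservesLimit_of_preserves_limit_cone hpb.isLimit
    ((isLimitMapConePullbackConeEquiv (ptsFunctor ξ) hpb.w).symm ?_)
  refine PullbackCone.IsLimit.mk _
    (fun s => FintypeCat.homMk fun z => (bijective_pts_push ξ hX f g (s.fst z) (s.snd z)
      (congrArg (fun k => k.hom z) s.condition)).exists.choose) (fun s => ?_) (fun s => ?_)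
    (fun s m h1 h2 => ?_)
  · exact FintypeCat.hom_ext _ _ fun z => (bijective_pts_push ξ hX f g (s.fst z) (s.snd z)
      (congrArg (fun k => k.hom z) s.condition)).exists.choose_spec.1
  · exact FintypeCat.hom_ext _ _ fun z => (bijective_pts_push ξ hX f g (s.fst z) (s.snd z)
      (congrArg (fun k => k.hom z) s.condition)).exists.choose_spec.2
  · refine FintypeCat.hom_ext _ _ fun z => ?_
    exact (bijective_pts_push ξ hX f g (s.fst z) (s.snd z)
      (congrArg (fun k => k.hom z) s.condition)).unique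
        ⟨congrArg (fun k => k.hom z) h1, congrArg (fun k => k.hom z) h2⟩
        (bijective_pts_push ξ hX f g (s.fst z) (s.snd z)
          (congrArg (fun k => k.hom z) s.condition)).exists.choose_spec

lemma pts_preservesFiniteCoproducts (hX : X.IsSchematic) :
    PreservesFiniteCoproducts (ptsFunctor ξ) := by
  have : HasTerminal (FEt X) := IsTerminal.hasTerminal zeroIsTerminal
  have : HasBinaryProducts (FEt X) := hasBinaryProducts
  have : HasFiniteProducts (FEt X) := hasFiniteProducts_of_has_binary_and_terminal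
  have : HasFiniteCoproducts (FEt X)ᵒᵖ := inferInstance
  have h0 : PreservesColimitsOfShape (Discrete PEmpty.{1}) (ptsFunctor ξ) := by
    have he := isEmpty_pts_zeroObj ξ
    have hinit : IsInitial ((ptsFunctor ξ).obj (op (zeroObj : FEt X))) :=
      IsInitial.ofUniqueHom (fun _ => FintypeCat.homMk fun z => he.elim z)
        (fun Y m => FintypeCat.hom_ext _ _ fun z => he.elim z)
    have : PreservesColimit (Functor.empty.{0} (FEt X)ᵒᵖ) (ptsFunctor ξ) :=
      preservesColimit_of_preserves_colimit_cocone (initialOpOfTerminal zeroIsTerminal)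
        ((isColimitMapCoconeEmptyCoconeEquiv _ _).symm hinit)
    exact preservesColimitsOfShape_pempty_of_preservesInitial (ptsFunctor ξ)
  have h2 : PreservesColimitsOfShape (Discrete WalkingPair) (ptsFunctor ξ) := by
    suffices ∀ A B : FEt X, PreservesColimit (pair (op A) (op B)) (ptsFunctor ξ) by
      constructor
      intro K
      have := this (K.obj ⟨WalkingPair.left⟩).unop (K.obj ⟨WalkingPair.right⟩).unop
      exact preservesColimit_of_iso_diagram (ptsFunctor ξ) (diagramIsoPair K).symm
    intro A B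
    have hop : IsColimit (BinaryCofan.mk (prodFst A B).op (prodSnd A B).op) := by
      refine BinaryCofan.isColimitMk (fun s => (prodLiftHom s.inl.unop s.inr.unop).op)
        (fun s => ?_) (fun s => ?_) (fun s m h1 h2 => ?_)
      · exact Quiver.Hom.unop_inj (fet_ext fun p a => rfl)
      · exact Quiver.Hom.unop_inj (fet_ext fun p a => rfl)
      · refine Quiver.Hom.unop_inj (fet_ext fun p a => Prod.ext ?_ ?_)
        · exact congrArg (fun k => k.unop.hom.app p a) h1
        · exact congrArg (fun k => k.unop.hom.app p a) h2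
    refine preservesColimit_of_preserves_colimit_cocone hop
      ((isColimitMapCoconeBinaryCofanEquiv (ptsFunctor ξ) _ _).symm ?_)
    let e := Equiv.ofBijective _ (bijective_pts_prod ξ A B)
    refine BinaryCofan.isColimitMk
      (fun s => FintypeCat.homMk fun z => Sum.elim s.inl s.inr (e.symm z))
      (fun s => ?_) (fun s => ?_) (fun s m h1 h2 => ?_)
    · refine FintypeCat.hom_ext _ _ fun z => ?_
      show Sum.elim s.inl s.inr (e.symm (ptsMap ξ (prodFst A B) z)) = s.inl z
      rw [show e.symm (ptsMap ξ (prodFst A B) z) = Sum.inl z from e.symm_apply_eq.mpr rfl]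
      rfl
    · refine FintypeCat.hom_ext _ _ fun z => ?_
      show Sum.elim s.inl s.inr (e.symm (ptsMap ξ (prodSnd A B) z)) = s.inr z
      rw [show e.symm (ptsMap ξ (prodSnd A B) z) = Sum.inr z from e.symm_apply_eq.mpr rfl]
      rfl
    · refine FintypeCat.hom_ext _ _ fun z => ?_
      obtain ⟨y, rfl⟩ := e.surjective z
      show m _ = Sum.elim s.inl s.inr (e.symm (e y))
      rw [e.symm_apply_apply]
      cases y with
      | inl y => exact congrArg (fun k => k.hom y) h1
      | inr y => exact congrArg (fun k => k.hom y) h2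
  exact ⟨fun n => PreservesFiniteCoproducts.of_preserves_binary_and_initial (ptsFunctor ξ) (Fin n)⟩

lemma pts_preservesEpis (hX : X.IsSchematic) : (ptsFunctor ξ).PreservesEpimorphisms where
  preserves {A B} f _ := by
    have : Mono f.unop := inferInstance
    have hs := surjective_ptsMap_of_injective ξ f.unop (injective_of_mono hX f.unop ξ.base)
    exact ⟨fun g h e => FintypeCat.hom_ext _ _ fun z => by
      obtain ⟨y, rfl⟩ := hs z
      exact congrArg (fun k => k.hom y) e⟩

end Groth.Agent.SchFinLib
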