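import Groth.Agent.SchFinLib.Cat

/-!
# A pointwise surjective morphism of étale covers splits off a direct factor
-/

set_option autoImplicit false

open TensorProduct CategoryTheory

namespace Groth.Agent.SchFinLib

open SchFin

universe u

lemma idem_unique {R : Type u} [CommRing R] {e e' : R} (he : IsIdempotentElem e)
    (he' : IsIdempotentElem e') (h : Ideal.span {e} = Ideal.span ({e'} : Set R)) : e = e' := by
  obtain ⟨a, ha⟩ := Ideal.mem_span_singleton'.mp (h ▸ Ideal.mem_span_singleton_self e)
  obtain ⟨b, hb⟩ := Ideal.mem_span_singleton'.mp (h ▸ Ideal.mem_span_singleton_self e')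
  have h1 : e = e * e' := by
    calc e = a * e' := ha.symm
      _ = a * (e' * e') := by rw [he'.eq]
      _ = (a * e') * e' := (mul_assoc _ _ _).symm
      _ = e * e' := by rw [ha]
  have h2 : e' = e' * e := by
    calc e' = b * e := hb.symm
      _ = b * (e * e) := by rw [he.eq]
      _ = (b * e) * e := (mul_assoc _ _ _).symm
      _ = e' * e := by rw [hb]
  exact h1.trans ((mul_comm e e').trans h2.symm)

variable {X : RSpace.{u}} {A B : FEt X} (hX : X.IsSchematic) (f : A ⟶ B)

include hX in
lemma exists_kerIdem (p : X.pt) :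
    ∃ e : A.obj.carrier p, IsIdempotentElem e ∧ RingHom.ker (f.hom.app p) = Ideal.span {e} := by
  have := noeth hX p
  exact exists_idem_ker (f.hom.app p)

/-- the idempotent generating the kernel -/
noncomputable def kerIdem (p : X.pt) : A.obj.carrier p := (exists_kerIdem hX f p).choose

lemma kerIdem_spec (p : X.pt) :
    IsIdempotentElem (kerIdem hX f p) ∧
      RingHom.ker (f.hom.app p) = Ideal.span {kerIdem hX f p} :=
  (exists_kerIdem hX f p).choose_spec

lemma app_kerIdem (p : X.pt) : f.hom.app p (kerIdem hX f p) = 0 := by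
  have : kerIdem hX f p ∈ RingHom.ker (f.hom.app p) := by
    rw [(kerIdem_spec hX f p).2]
    exact Ideal.mem_span_singleton_self _
  exact this

variable (hf : ∀ p : X.pt, Function.Surjective (f.hom.app p))
include hf

lemma res_kerIdem {p q : X.pt} (h : p ≤ q) :
    A.obj.res h (kerIdem hX f p) = kerIdem hX f q := by
  letI : Algebra (X.ring p) (X.ring q) := (X.res h).toAlgebra
  set e := kerIdem hX f p with he
  refine idem_unique ((kerIdem_spec hX f p).1.map _) (kerIdem_spec hX f q).1 ?_
  rw [← (kerIdem_spec hX f q).2]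
  refine le_antisymm ?_ ?_
  · rw [Ideal.span_singleton_le_iff_mem, RingHom.mem_ker, ← app_res f h, app_kerIdem, map_zero]
  · intro x hx
    let I : Ideal (A.obj.carrier q) := Ideal.span {A.obj.res h e}
    let φ : B.obj.carrier p →+* A.obj.carrier q ⧸ I :=
      (Ideal.quotientMap I (A.obj.res h) (by
        refine (le_of_eq (kerIdem_spec hX f p).2).trans ?_
        rw [Ideal.span_singleton_le_iff_mem, Ideal.mem_comap]
        exact Ideal.mem_span_singleton_self _)).comp
        (RingHom.quotientKerEquivOfSurjective (hf p)).symm.toRingHom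
    have hφ : ∀ a, φ (f.hom.app p a) = Ideal.Quotient.mk I (A.obj.res h a) := by
      intro a
      simp only [φ, RingHom.comp_apply]
      rw [RingEquiv.toRingHom_eq_coe, RingEquiv.coe_toRingHom, show (RingHom.quotientKerEquivOfSurjective (hf p)).symm (f.hom.app p a) =
        Ideal.Quotient.mk _ a from (RingHom.quotientKerEquivOfSurjective (hf p)).symm_apply_eq.mpr rfl]
      rfl
    obtain ⟨ψ, hψ⟩ := bc_exists_lift (fet_bc B h) (T := A.obj.carrier q ⧸ I) φ (fun r => by
      rw [← AlgHom.commutes (f.hom.app p), hφ, A.obj.res_algebraMap]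
      rfl)
    have key : ψ.comp (f.hom.app q) = Ideal.Quotient.mkₐ (X.ring q) I := by
      refine bc_hom_ext (fet_bc A h) _ _ fun a => ?_
      rw [AlgHom.comp_apply, ← app_res f h, hψ, hφ]
      rfl
    have : Ideal.Quotient.mk I x = 0 := by
      have := AlgHom.congr_fun key x
      rw [AlgHom.comp_apply, show f.hom.app q x = 0 from hx, map_zero] at this
      exact this.symm
    exact Ideal.Quotient.eq_zero_iff_mem.mp this

/-- the complementary algebra -/
noncomputable def complAlg : Alg X where
  carrier p := A.obj.carrier p ⧸ Ideal.span ({1 - kerIdem hX f p} : Set (A.obj.carrier p))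
  instRing p := inferInstance
  instAlg p := inferInstance
  res {p q} h := Ideal.quotientMap _ (A.obj.res h) (by
    rw [Ideal.span_singleton_le_iff_mem, Ideal.mem_comap, map_sub, map_one, res_kerIdem hX f hf h]
    exact Ideal.mem_span_singleton_self _)
  res_algebraMap {p q} h a := by
    show Ideal.Quotient.mk _ (A.obj.res h (algebraMap _ _ a)) = _
    rw [A.obj.res_algebraMap]
    rfl
  res_self p b := by
    obtain ⟨x, rfl⟩ := Ideal.Quotient.mk_surjective b
    show Ideal.Quotient.mk _ (A.obj.res le_rfl x) = _
    rw [A.obj.res_self]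
  res_comp {p q s} h h' b := by
    obtain ⟨x, rfl⟩ := Ideal.Quotient.mk_surjective b
    show Ideal.Quotient.mk _ (A.obj.res h' (A.obj.res h x)) = Ideal.Quotient.mk _ _
    rw [A.obj.res_comp]

/-- pointwise decomposition map -/
noncomputable def splitMap (p : X.pt) :
    A.obj.carrier p →ₐ[X.ring p] B.obj.carrier p × (complAlg hX f hf).carrier p :=
  (f.hom.app p).prod (Ideal.Quotient.mkₐ (X.ring p) _)

lemma splitMap_bijective (p : X.pt) : Function.Bijective (splitMap hX f hf p) := by
  obtain ⟨he, hk⟩ := kerIdem_spec hX f p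
  set e := kerIdem hX f p
  constructor
  · refine (injective_iff_map_eq_zero _).mpr fun a ha => ?_
    have h1 : a ∈ RingHom.ker (f.hom.app p) := congrArg Prod.fst ha
    rw [hk] at h1
    obtain ⟨c, rfl⟩ := Ideal.mem_span_singleton'.mp h1
    obtain ⟨d, hd⟩ := Ideal.mem_span_singleton'.mp
      (Ideal.Quotient.eq_zero_iff_mem.mp (congrArg Prod.snd ha : Ideal.Quotient.mk _ _ = 0))
    have : c * e = d * (1 - e) * e := by rw [hd, mul_assoc, he.eq]
    rw [this, mul_assoc, sub_mul, one_mul, he.eq, sub_self, mul_zero]
  · rintro ⟨b, d⟩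
    obtain ⟨a, rfl⟩ := hf p b
    obtain ⟨c, rfl⟩ := Ideal.Quotient.mk_surjective d
    have hfe : f.hom.app p e = 0 := app_kerIdem hX f p
    refine ⟨a + (c - a) * e, Prod.ext ?_ ?_⟩
    · show f.hom.app p _ = f.hom.app p a
      rw [map_add, map_mul, hfe, mul_zero, add_zero]
    · show Ideal.Quotient.mk _ _ = Ideal.Quotient.mk _ c
      rw [Ideal.Quotient.eq, Ideal.mem_span_singleton']
      exact ⟨a - c, by ring⟩

/-- complementary cover -/
noncomputable def complObj : FEt X :=
  ⟨complAlg hX f hf, (isQcoh_iff _).mpr (fun p q h => by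
    letI : Algebra (X.ring p) (X.ring q) := (X.res h).toAlgebra
    have hp := (isBC_congr (A.obj.res h) (A.obj.res_algebraMap h)
      ((B.obj.res h).prodMap ((complAlg hX f hf).res h))
      (fun a => Prod.ext (B.obj.res_algebraMap h a) ((complAlg hX f hf).res_algebraMap h a))
      (AlgEquiv.ofBijective _ (splitMap_bijective hX f hf p))
      (AlgEquiv.ofBijective _ (splitMap_bijective hX f hf q))
      (fun x => Prod.ext (f.hom.compat h x).symm rfl)).mp (fet_bc A h)
    exact ((isBC_prod _ (B.obj.res_algebraMap h) _ _ _).mp hp).2),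
    fun p => ⟨inferInstanceAs (Module.Finite (X.ring p)
      (A.obj.carrier p ⧸ Ideal.span ({1 - kerIdem hX f p} : Set (A.obj.carrier p)))),
      etale_quotient_of_idem (kerIdem_spec hX f p).1.one_sub⟩⟩

/-- projection to the complement -/
noncomputable def complπ : A ⟶ complObj hX f hf :=
  fetHomMk (fun p => Ideal.Quotient.mkₐ (X.ring p) _) (fun _ _ => rfl)

end Groth.Agent.SchFinLib
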